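import Groth.Agent.TF64.Lang.Limit
import Groth.Agent.Curves2.SmoothNormal

/-!
A smooth point of the special fibre lies on one component only.
-/

set_option autoImplicit false
set_option backward.isDefEq.respectTransparency.types false
universe u

open CategoryTheory CategoryTheory.Limits AlgebraicGeometry TopologicalSpace

namespace Groth.Agent.TF64

theorem unique_generic_of_isDomain {X : Scheme.{u}} (x : X) [IsDomain (X.presheaf.stalk x)] :
    ∃ η₀ : X, ∀ η ∈ genericPoints X, η ⤳ x → η = η₀ := by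
  let ξ : Spec (X.presheaf.stalk x) := (⟨⊥, Ideal.bot_prime⟩ : PrimeSpectrum (X.presheaf.stalk x))
  refine ⟨X.fromSpecStalk x ξ, fun η hη hs => ?_⟩
  obtain ⟨w, rfl⟩ : η ∈ Set.range (X.fromSpecStalk x) := by rw [Scheme.range_fromSpecStalk]; exact hs
  have h : ξ ⤳ w := (PrimeSpectrum.le_iff_specializes (⟨⊥, Ideal.bot_prime⟩ : PrimeSpectrum (X.presheaf.stalk x)) w).1 bot_le
  exact (eq_of_specializes_generic hη (h.map (X.fromSpecStalk x).continuous)).symm

variable {R : Type u} [CommRing R] [IsDomain R] [IsDiscreteValuationRing R] {X : Scheme.{u}}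
  {f : X ⟶ Spec (CommRingCat.of R)} {Xs : Scheme.{u}}
  [Xs.Over (Spec (CommRingCat.of (IsLocalRing.ResidueField R)))] {i : Xs ⟶ X}
  (hsq : IsPullback i (Xs ↘ Spec (CommRingCat.of (IsLocalRing.ResidueField R))) f
      (Spec.map (CommRingCat.ofHom (IsLocalRing.residue R))))

include hsq in
theorem exists_special_point (σ : Spec (CommRingCat.of R) ⟶ X) (hσ : σ ≫ f = 𝟙 _) :
    ∃ z : Xs, i z = σ (IsLocalRing.closedPoint R) := by
  letI : X.Over (Spec (CommRingCat.of R)) := ⟨f⟩
  exact (mem_range_special (X := X) hsq).2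
    (congrArg (fun φ : Spec (CommRingCat.of R) ⟶ Spec (CommRingCat.of R) => φ (IsLocalRing.closedPoint R)) hσ)

include hsq in
theorem isDomain_stalk_special (U : X.Opens) [Smooth (U.ι ≫ f)] {z : Xs} (hz : i z ∈ U) :
    IsDomain (Xs.presheaf.stalk z) := by
  let V : Xs.Opens := i ⁻¹ᵁ U
  have hV : IsPullback (i ∣_ U) (V.ι ≫ (Xs ↘ Spec (CommRingCat.of (IsLocalRing.ResidueField R)))) (U.ι ≫ f)
      (Spec.map (CommRingCat.ofHom (IsLocalRing.residue R))) :=
    (isPullback_morphismRestrict i U).paste_vert hsq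
  haveI : Smooth (V.ι ≫ (Xs ↘ Spec (CommRingCat.of (IsLocalRing.ResidueField R)))) :=
    MorphismProperty.of_isPullback hV inferInstance
  have := (Curves2.isIntegrallyClosed_stalk_of_smooth
    (V.ι ≫ (Xs ↘ Spec (CommRingCat.of (IsLocalRing.ResidueField R)))) (⟨z, hz⟩ : V)).1
  exact (V.stalkIso ⟨z, hz⟩).commRingCatIsoToRingEquiv.symm.injective.isDomain
    (V.stalkIso ⟨z, hz⟩).commRingCatIsoToRingEquiv.symm.toRingHom

end Groth.Agent.TF64
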