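import Groth.Agent.TF64.Lang.Extend
import Groth.Agent.TF64.Lang.Point

/-!
Extensions with good fibres.
-/

set_option autoImplicit false
set_option backward.isDefEq.respectTransparency.types false
universe u

open CategoryTheory CategoryTheory.Limits AlgebraicGeometry TopologicalSpace

namespace Groth.Agent.TF64

theorem fibSemistable_of_quasistableAlong {X T : Scheme.{u}} {f : X ⟶ T} {F E : X.Modules} {σ : T ⟶ X}
    {hσ : σ ≫ f = 𝟙 T} {r : ℕ} (h : TFOne.FibQuasistableAlong f F E σ hσ r) : TFOne.FibSemistable f F E r := by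
  intro Ω _ _ t Y a qY ha
  exact (h Ω t Y a qY ha (ha.lift (t ≫ σ) (𝟙 _) (by rw [Category.assoc, hσ, Category.comp_id, Category.id_comp]))
    (ha.lift_fst _ _ _) (ha.lift_snd _ _ _)).1

variable {R : Type u} [CommRing R] [IsDomain R] [IsDiscreteValuationRing R] {X : Scheme.{u}}
  {f : X ⟶ Spec (CommRingCat.of R)} [Flat f] [IsProper f] {Xs : Scheme.{u}}
  [Xs.Over (Spec (CommRingCat.of (IsLocalRing.ResidueField R)))] {i : Xs ⟶ X} [AlgebraicGeometry.IsReduced Xs]
  {Xg : Scheme.{u}} [Xg.Over (Spec (CommRingCat.of (FractionRing R)))] {j : Xg ⟶ X}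
  (hsq : IsPullback i (Xs ↘ Spec (CommRingCat.of (IsLocalRing.ResidueField R))) f
      (Spec.map (CommRingCat.ofHom (IsLocalRing.residue R))))
  (hgen : IsPullback j (Xg ↘ Spec (CommRingCat.of (FractionRing R))) f
      (Spec.map (CommRingCat.ofHom (algebraMap R (FractionRing R)))))
  (hpure : ∀ C ∈ irreducibleComponents (Xs : Type u), topologicalKrullDim C = 1)
  (hgi : ∀ (C : Set Xs) (hC : C ∈ irreducibleComponents (Xs : Type u)),
      GeometricallyIntegral (VecSt.subschι Xs C (isClosed_of_mem_irreducibleComponents C hC) ≫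
        (Xs ↘ Spec (CommRingCat.of (IsLocalRing.ResidueField R)))))

omit [Flat f] [AlgebraicGeometry.IsReduced Xs] in
include hsq hgen in
/-- The special fibre of a family with simple generic fibre is not empty. -/
theorem nonempty_special {M : Xg.Modules}
    (hM : TFOne.FibSimple (Xg ↘ Spec (CommRingCat.of (FractionRing R))) M) : Nonempty Xs := by
  letI : X.Over (Spec (CommRingCat.of R)) := ⟨f⟩
  haveI : IsProper (X ↘ Spec (CommRingCat.of R)) := ‹IsProper f›
  by_contra h
  rw [not_nonempty_iff] at h
  have h0 : (Set.univ : Set X) = ∅ := eq_empty_of_special (X := X) hsq isClosed_univ (by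
    rw [Set.range_eq_empty, Set.inter_empty])
  let Ω := AlgebraicClosure (FractionRing R)
  let t := Spec.map (CommRingCat.ofHom (algebraMap (FractionRing R) Ω))
  let a := pullback.fst (Xg ↘ Spec (CommRingCat.of (FractionRing R))) t
  exact (hM Ω t _ a _ (IsPullback.of_hasPullback _ _)).1 (isZero_of_stalks_subsingleton fun y =>
    (Set.eq_empty_iff_forall_notMem.1 h0 (j (a y)) trivial).elim)

end Groth.Agent.TF64
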