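import Groth.Agent.TF64.Lang.FibGeom

/-!
Fibre conditions on a family over a trait from conditions on the special and on the generic fibre.
-/

set_option autoImplicit false
set_option backward.isDefEq.respectTransparency.types false
universe u

open CategoryTheory CategoryTheory.Limits AlgebraicGeometry TopologicalSpace

namespace Groth.Agent.TF64

/-- Inverse images in two steps. -/
noncomputable def pullIso {X X' Y : Scheme.{u}} {b : Y ⟶ X'} {i : X' ⟶ X} {a : Y ⟶ X} (h : b ≫ i = a)
    (F : X.Modules) :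
    (Scheme.Modules.pullback b).obj ((Scheme.Modules.pullback i).obj F) ≅ (Scheme.Modules.pullback a).obj F :=
  (Scheme.Modules.pullbackComp b i).app F ≪≫ (Scheme.Modules.pullbackCongr h).app F

theorem isCoh_of_isFP' {X : Scheme.{u}} {F : X.Modules} (hF : CohB1.IsFP F) : Coh.IsCoh F :=
  ⟨let ⟨σ, _⟩ := hF.exists_quasicoherentData; σ.isQuasicoherent,
    have := hF; SheafOfModules.instIsFiniteTypeOfIsFinitePresentation F⟩

variable {R : Type u} [CommRing R] [IsDomain R] [IsDiscreteValuationRing R] {X : Scheme.{u}}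
  (f : X ⟶ Spec (CommRingCat.of R)) [Flat f] [IsProper f] {Xs : Scheme.{u}}
  [Xs.Over (Spec (CommRingCat.of (IsLocalRing.ResidueField R)))] (i : Xs ⟶ X)
  {Xg : Scheme.{u}} [Xg.Over (Spec (CommRingCat.of (FractionRing R)))] (j : Xg ⟶ X)

/-- A flat coherent extension with torsion-free rank one reduction, isomorphic to `I` generically. -/
structure Good (I I' : X.Modules) : Prop where
  coh : Coh.IsCoh I'
  flat : FlatMod.IsFlatOver f I'
  tf1 : TFOne.IsTF1 Xs ((Scheme.Modules.pullback i).obj I')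
  iso : Nonempty ((Scheme.Modules.pullback j).obj I' ≅ (Scheme.Modules.pullback j).obj I)

variable {f i j} [AlgebraicGeometry.IsReduced Xs]
  (hsq : IsPullback i (Xs ↘ Spec (CommRingCat.of (IsLocalRing.ResidueField R))) f
      (Spec.map (CommRingCat.ofHom (IsLocalRing.residue R))))
  (hgen : IsPullback j (Xg ↘ Spec (CommRingCat.of (FractionRing R))) f
      (Spec.map (CommRingCat.ofHom (algebraMap R (FractionRing R)))))
  (hpure : ∀ C ∈ irreducibleComponents (Xs : Type u), topologicalKrullDim C = 1)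
  (hgi : ∀ (C : Set Xs) (hC : C ∈ irreducibleComponents (Xs : Type u)),
      GeometricallyIntegral (VecSt.subschι Xs C (isClosed_of_mem_irreducibleComponents C hC) ≫
        (Xs ↘ Spec (CommRingCat.of (IsLocalRing.ResidueField R)))))

omit [IsProper f] [AlgebraicGeometry.IsReduced Xs] [Flat f] in
include hsq hgen in
theorem fac_cases {Ω : Type u} [Field Ω] {t : Spec (CommRingCat.of Ω) ⟶ Spec (CommRingCat.of R)}
    {Y : Scheme.{u}} [Y.Over (Spec (CommRingCat.of Ω))] {a : Y ⟶ X}
    (ha : IsPullback a (Y ↘ Spec (CommRingCat.of Ω)) f t) :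
    (∃ (ψ : IsLocalRing.ResidueField R →+* Ω) (b : Y ⟶ Xs), b ≫ i = a ∧ IsExt Xs Y b ψ ∧
        t = Spec.map (CommRingCat.ofHom (ψ.comp (IsLocalRing.residue R)))) ∨
      (∃ (ψ : FractionRing R →+* Ω) (b : Y ⟶ Xg), b ≫ j = a ∧ IsExt Xg Y b ψ ∧
        t = Spec.map (CommRingCat.ofHom (ψ.comp (algebraMap R (FractionRing R))))) := by
  rcases point_cases t with ⟨ψ, rfl⟩ | ⟨ψ, rfl⟩
  · obtain ⟨b, h1, h2⟩ := exists_fac hsq ha
    exact Or.inl ⟨ψ, b, h1, h2, rfl⟩
  · obtain ⟨b, h1, h2⟩ := exists_fac hgen ha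
    exact Or.inr ⟨ψ, b, h1, h2, rfl⟩

omit [Flat f] in
include hsq hgi in
/-- The reduction of a relatively torsion-free rank one module is torsion-free rank one. -/
theorem good_self {I : X.Modules} (hI : TFOne.IsRelTF1 f I) : Good f i j I I := by
  let κ := IsLocalRing.ResidueField R
  let Ω := AlgebraicClosure κ
  let b := pullback.fst (Xs ↘ Spec (CommRingCat.of κ)) (Spec.map (CommRingCat.ofHom (algebraMap κ Ω)))
  letI : (pullback (Xs ↘ Spec (CommRingCat.of κ)) (Spec.map (CommRingCat.ofHom (algebraMap κ Ω)))).Over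
      (Spec (CommRingCat.of Ω)) := ⟨pullback.snd _ _⟩
  have hb : IsExt Xs _ b (algebraMap κ Ω) := IsPullback.of_hasPullback _ _
  have := isProper_special hsq
  have := Crv77.isNoetherian_of_proper κ Xs
  have := isProper_ext hb
  haveI := geometricallyReduced_of_components hgi
  have := isReduced_ext hb
  have hc := isCoh_of_isFP' hI.2.1
  refine ⟨hc, hI.1, isTF1_of_pull hb hgi (isCoh_pull i hc) (isTF1_congr (pullIso rfl I).symm
    (hI.2.2 Ω _ _ (b ≫ i) _ (hb.paste_horiz hsq))), ⟨Iso.refl _⟩⟩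

include hsq hgen hgi in
theorem Good.isRelTF1 {I I' : X.Modules} (hI : TFOne.IsRelTF1 f I) (h : Good f i j I I') :
    TFOne.IsRelTF1 f I' := by
  haveI : IsLocallyNoetherian X := LocallyOfFiniteType.isLocallyNoetherian f
  refine ⟨h.flat, QCCohInd72.isFP_of_isCoh h.coh, fun Ω _ _ t Y a qY ha => ?_⟩
  letI : Y.Over (Spec (CommRingCat.of Ω)) := ⟨qY⟩
  rcases fac_cases hsq hgen (Ω := Ω) (Y := Y) (a := a) ha with ⟨ψ, b, hb, hbe, -⟩ | ⟨ψ, b, hb, hbe, -⟩
  · have := isProper_special hsq
    have := Crv77.isNoetherian_of_proper (IsLocalRing.ResidueField R) Xs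
    have := isProper_ext hbe
    haveI := geometricallyReduced_of_components hgi
    have := isReduced_ext hbe
    exact isTF1_congr (pullIso hb I') (isTF1_pull hbe hgi h.tf1)
  · obtain ⟨e⟩ := h.iso
    exact isTF1_congr ((pullIso hb I).symm ≪≫ (Scheme.Modules.pullback b).mapIso e.symm ≪≫ pullIso hb I')
      (hI.2.2 Ω t Y a qY ha)

include hsq hgen hgi in
theorem Good.fibSimple [Nonempty Xs] {I I' : X.Modules} (h : Good f i j I I')
    (hI : TFOne.FibSimple (Xg ↘ Spec (CommRingCat.of (FractionRing R))) ((Scheme.Modules.pullback j).obj I))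
    (hs : Indec ((Scheme.Modules.pullback i).obj I')) : TFOne.FibSimple f I' := by
  intro Ω _ _ t Y a qY ha
  letI : Y.Over (Spec (CommRingCat.of Ω)) := ⟨qY⟩
  rcases fac_cases hsq hgen (Ω := Ω) (Y := Y) (a := a) ha with ⟨ψ, b, hb, hbe, -⟩ | ⟨ψ, b, hb, hbe, -⟩
  · have := isProper_special hsq
    have := Crv77.isNoetherian_of_proper (IsLocalRing.ResidueField R) Xs
    have := isProper_ext hbe
    haveI := geometricallyReduced_of_components hgi
    have := isReduced_ext hbe
    exact isSimple_congr qY (pullIso hb I') (isSimple_ext hbe hgi h.tf1 hs)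
  · obtain ⟨e⟩ := h.iso
    exact isSimple_congr qY ((Scheme.Modules.pullback b).mapIso e.symm ≪≫ pullIso hb I')
      (hI Ω _ Y b qY hbe)

include hsq hgen hgi hpure in
theorem Good.fibSemistable {I I' E : X.Modules} {r : ℕ} (hE : FlatMod.IsFinLocFreeOfRank r E)
    (h : Good f i j I I')
    (hI : TFOne.FibSemistable (Xg ↘ Spec (CommRingCat.of (FractionRing R)))
      ((Scheme.Modules.pullback j).obj I) ((Scheme.Modules.pullback j).obj E) r)
    (hs : TFOne.IsSemistable Xs (IsLocalRing.ResidueField R) (Xs ↘ Spec (CommRingCat.of (IsLocalRing.ResidueField R)))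
      ((Scheme.Modules.pullback i).obj I') ((Scheme.Modules.pullback i).obj E) r) :
    TFOne.FibSemistable f I' E r := by
  intro Ω _ _ t Y a qY ha
  letI : Y.Over (Spec (CommRingCat.of Ω)) := ⟨qY⟩
  rcases fac_cases hsq hgen (Ω := Ω) (Y := Y) (a := a) ha with ⟨ψ, b, hb, hbe, -⟩ | ⟨ψ, b, hb, hbe, -⟩
  · have := isProper_special hsq
    have := Crv77.isNoetherian_of_proper (IsLocalRing.ResidueField R) Xs
    have := isProper_ext hbe
    haveI := geometricallyReduced_of_components hgi
    have := isReduced_ext hbe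
    exact isSemistable_congr qY (pullIso hb I') (pullIso hb E)
      (isSemistable_ext hbe hgi (Crv77.dim_le_one_of_components hpure) (isFinLocFreeOfRank_pull i hE) hs)
  · obtain ⟨e⟩ := h.iso
    exact isSemistable_congr qY ((Scheme.Modules.pullback b).mapIso e.symm ≪≫ pullIso hb I') (pullIso hb E)
      (hI Ω _ Y b qY hbe)

include hsq hgen hgi hpure in
theorem Good.fibQuasistableAlong {I I' E : X.Modules} {r : ℕ} (hE : FlatMod.IsFinLocFreeOfRank r E)
    (h : Good f i j I I') (σ : Spec (CommRingCat.of R) ⟶ X) (hσ : σ ≫ f = 𝟙 _)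
    (σg : Spec (CommRingCat.of (FractionRing R)) ⟶ Xg)
    (hσg : σg ≫ (Xg ↘ Spec (CommRingCat.of (FractionRing R))) = 𝟙 _)
    (hσgj : σg ≫ j = Spec.map (CommRingCat.ofHom (algebraMap R (FractionRing R))) ≫ σ)
    (hI : TFOne.FibQuasistableAlong (Xg ↘ Spec (CommRingCat.of (FractionRing R)))
      ((Scheme.Modules.pullback j).obj I) ((Scheme.Modules.pullback j).obj E) σg hσg r)
    {p : Xs} (hp : i p = σ (IsLocalRing.closedPoint R))
    (hs : TFOne.IsQuasistableAtPt Xs (IsLocalRing.ResidueField R)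
      (Xs ↘ Spec (CommRingCat.of (IsLocalRing.ResidueField R)))
      ((Scheme.Modules.pullback i).obj I') ((Scheme.Modules.pullback i).obj E) r p) :
    TFOne.FibQuasistableAlong f I' E σ hσ r := by
  intro Ω _ _ t Y a qY ha y hy1 hy2
  letI : Y.Over (Spec (CommRingCat.of Ω)) := ⟨qY⟩
  rcases fac_cases hsq hgen (Ω := Ω) (Y := Y) (a := a) ha with ⟨ψ, b, hb, hbe, rfl⟩ | ⟨ψ, b, hb, hbe, rfl⟩
  · have := isProper_special hsq
    have := Crv77.isNoetherian_of_proper (IsLocalRing.ResidueField R) Xs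
    have := isProper_ext hbe
    haveI := geometricallyReduced_of_components hgi
    have := isReduced_ext hbe
    haveI : IsClosedImmersion i := MorphismProperty.of_isPullback hsq.flip
      (IsClosedImmersion.spec_of_surjective _ Ideal.Quotient.mk_surjective)
    refine isQuasistableAtPt_congr qY (pullIso hb I') (pullIso hb E)
      (isQuasistableAtPt_ext hbe hgi (Crv77.dim_le_one_of_components hpure) (isFinLocFreeOfRank_pull i hE)
        (i.isClosedEmbedding.injective ?_) hs)
    rw [hp, ← Scheme.Hom.comp_apply, hb, ← Scheme.Hom.comp_apply, hy1, Scheme.Hom.comp_apply]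
    congr 1
    refine PrimeSpectrum.ext ?_
    change Ideal.comap (ψ.comp (IsLocalRing.residue R)) (IsLocalRing.maximalIdeal Ω) = IsLocalRing.maximalIdeal R
    rw [IsLocalRing.maximalIdeal_eq_bot, ← RingHom.ker_eq_comap_bot, RingHom.ker_comp_of_injective _ ψ.injective,
      IsLocalRing.ker_residue]
  · obtain ⟨e⟩ := h.iso
    refine isQuasistableAtPt_congr qY ((Scheme.Modules.pullback b).mapIso e.symm ≪≫ pullIso hb I') (pullIso hb E)
      (hI Ω (Spec.map (CommRingCat.ofHom ψ)) Y b qY hbe y (hgen.hom_ext ?_ ?_) hy2)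
    · rw [Category.assoc, hb, hy1, Category.assoc, hσgj, ← Category.assoc, ← Spec.map_comp, ← CommRingCat.ofHom_comp]
    · simp only [Category.assoc, hσg, Category.comp_id, hbe.w]
      exact (Category.assoc _ _ _).symm.trans ((congrArg (· ≫ _) hy2).trans (Category.id_comp _))

end Groth.Agent.TF64
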