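import Groth.Agent.TF64.Lang.EulerTensor
import Groth.Agent.TF64.Beta

/-!
Coherent quotients of semistable sheaves.
-/

set_option autoImplicit false
universe u

open CategoryTheory CategoryTheory.Limits AlgebraicGeometry TopologicalSpace
open Groth.Agent.QC70 (stalkMapM germM)

namespace Groth.Agent.TF64

variable {X : Scheme.{u}}

/-- Any set of generic points cuts out a union of components. -/
theorem exists_genClosed [AlgebraicGeometry.IsNoetherian X] (S : Set X) :
    ∃ Z : Set X, GenClosed Z ∧ ∀ η ∈ genericPoints X, (η ∈ Z ↔ η ∈ S) := by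
  have hc : IsClosed (⋃ η ∈ genericPoints X ∩ S, closure ({η} : Set X)) :=
    (finite_genericPoints.subset Set.inter_subset_left).isClosed_biUnion fun _ _ => isClosed_closure
  refine ⟨_, ⟨hc, fun x hx => ?_⟩, fun η hη => ⟨fun h => ?_, fun h => Set.mem_biUnion ⟨hη, h⟩ (subset_closure rfl)⟩⟩
  · obtain ⟨η, hη, h⟩ := Set.mem_iUnion₂.1 hx
    exact ⟨η, hη.1, Set.mem_biUnion hη (subset_closure rfl), specializes_iff_mem_closure.2 h⟩
  · obtain ⟨η', hη', h'⟩ := Set.mem_iUnion₂.1 h
    exact eq_of_specializes_generic hη (specializes_iff_mem_closure.2 h') ▸ hη'.2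

variable [AlgebraicGeometry.IsReduced X] {k : Type u} [Field k] [X.Over (Spec (CommRingCat.of k))]
  [IsProper (X ↘ Spec (CommRingCat.of k))]

/-- A coherent quotient `Q` of `M` dominates the torsion-free quotient on the components where `Q` is not
zero. -/
theorem exists_quot_le (hdim : topologicalKrullDim X ≤ 1) {M E Q : X.Modules} {r : ℕ}
    (hE : FlatMod.IsFinLocFreeOfRank r E) (hM : TFOne.IsTF1 X M) (hQ : Coh.IsCoh Q) (g : M ⟶ Q) [Epi g] :
    ∃ (Z : Set X) (G : X.Modules) (π : M ⟶ G), GenClosed Z ∧ TFOne.IsQuotOn X M Z G π ∧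
      (∀ η ∈ genericPoints X, (η ∈ Z ↔ Nontrivial (Q.presheaf.stalk η))) ∧
      Curv2.euler k X (CohB1.tensorMod G E) ≤ Curv2.euler k X (CohB1.tensorMod Q E) := by
  have := Crv77.isNoetherian_of_proper k X
  obtain ⟨Z, hZ, hZS⟩ := exists_genClosed {η : X | Nontrivial (Q.presheaf.stalk η)}
  obtain ⟨G, π, hG⟩ := exists_quot hM.1 hM.2.1 hM.2.2 hZ
  refine ⟨Z, G, π, hZ, hG, hZS, ?_⟩
  haveI := hG.1
  have hbij : ∀ η ∈ genericPoints X, η ∈ Z → Function.Bijective (stalkMapM g η) := fun η hη hηZ => by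
    refine ⟨(injective_or_zeroAt hM.2.2 g hη).resolve_right fun h0 => ?_,
      QC70.surjective_stalkMapM_of_epi g η⟩
    have : Nontrivial (Q.presheaf.stalk η) := (hZS η hη).1 hηZ
    obtain ⟨y, hy⟩ := exists_ne (0 : Q.presheaf.stalk η)
    obtain ⟨m, rfl⟩ := QC70.surjective_stalkMapM_of_epi g η y
    exact hy (h0 m)
  have h0 : kernel.ι g ≫ π = 0 := eq_zero_of_zeroAt hG.2.1.1 hG.2.2.1 _ fun η hη e => by
    rw [stalkMapM_comp]
    by_cases h : η ∈ Z
    · have h1 : stalkMapM (kernel.ι g) η e = 0 := (hbij η hη h).1 (by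
        rw [← stalkMapM_comp, kernel.condition, stalkMapM_zero, map0])
      rw [h1, map0]
    · exact quot_zeroAt hG h _
  let q : Q ⟶ G := Abelian.epiDesc g π h0
  have hq : g ≫ q = π := Abelian.comp_epiDesc g π h0
  haveI : Epi q := epi_of_epi_fac hq
  have hK : Coh.IsCoh (kernel q) := QC70.isCoh_kernel q hQ hG.2.1.1
  have hS : (ShortComplex.mk (kernel.ι q) q (kernel.condition q)).ShortExact :=
    { exact := ShortComplex.exact_of_f_is_kernel _ (kernelIsKernel q) }
  have h := euler_tensor_add (k := k) hS hK hQ hG.2.1 hE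
  rw [h]
  refine le_add_of_nonneg_left (euler_tensor_nonneg hdim hE hK fun η hη => subsingleton_of_forall_eq 0 fun e => ?_)
  refine QC70.injective_stalkMapM_of_mono (kernel.ι q) η ?_
  rw [map0]
  by_cases h : η ∈ Z
  · obtain ⟨m, hm⟩ := QC70.surjective_stalkMapM_of_epi g η (stalkMapM (kernel.ι q) η e)
    have h1 : stalkMapM π η m = 0 := by
      rw [← hq, stalkMapM_comp, hm, ← stalkMapM_comp, kernel.condition, stalkMapM_zero]
    rw [← hm, (quot_bijective hG hM.2.2 hη h).1 (h1.trans (map0 π η).symm), map0]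
  · have : Subsingleton (Q.presheaf.stalk η) := not_nontrivial_iff_subsingleton.1 fun h' => h ((hZS η hη).2 h')
    exact Subsingleton.elim _ _

/-- A quotient supported on every component is the whole of a torsion-free rank one sheaf. -/
theorem mono_of_full {M Q : X.Modules} [IsLocallyNoetherian X] (hM : TFOne.IsTF1 X M) (g : M ⟶ Q) [Epi g]
    (h : ∀ η ∈ genericPoints X, Nontrivial (Q.presheaf.stalk η)) : Mono g :=
  mono_of_injective_generic hM.1.1 hM.2.1 g fun η hη => (injective_or_zeroAt hM.2.2 g hη).resolve_right fun h0 => by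
    have := h η hη
    obtain ⟨y, hy⟩ := exists_ne (0 : Q.presheaf.stalk η)
    obtain ⟨m, rfl⟩ := QC70.surjective_stalkMapM_of_epi g η y
    exact hy (h0 m)

/-- A coherent quotient of a semistable sheaf, polarised by `E`, has nonnegative twisted characteristic. -/
theorem euler_tensor_quot_nonneg (hdim : topologicalKrullDim X ≤ 1) {M E Q : X.Modules} {r : ℕ}
    (hE : FlatMod.IsFinLocFreeOfRank r E)
    (hss : TFOne.IsSemistable X k (X ↘ Spec (CommRingCat.of k)) M E r)
    (htot : Curv2.euler k X (CohB1.tensorMod M E) = 0) (hQ : Coh.IsCoh Q) (g : M ⟶ Q) [Epi g] :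
    0 ≤ Curv2.euler k X (CohB1.tensorMod Q E) := by
  have := Crv77.isNoetherian_of_proper k X
  obtain ⟨Z, G, π, hZ, hG, hZQ, hle⟩ := exists_quot_le (k := k) hdim hE hss.1 hQ g
  refine le_trans ?_ hle
  by_cases hne : ∃ η ∈ genericPoints X, η ∈ Z
  · by_cases hu : Z = Set.univ
    · subst hu
      haveI := hG.1
      haveI : Mono π := mono_of_full hss.1 π fun η hη => quot_nontrivial hG (Set.mem_univ η)
      haveI : IsIso π := isIso_of_mono_of_epi π
      rw [← Crv77.euler_congr (k := k) (EGA73.tensIso (asIso π) (Iso.refl E)), htot]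
    · rw [← rBeta_eq_euler_tensor hdim hE hss.1.2.2 hZ.1 hG]
      exact hss.2 Z hZ.1 (isSubcurve_of_genClosed hZ hne) hu G π hG
  · refine (euler_tensor_nonneg hdim hE hG.2.1 fun η hη => ?_)
    exact subsingleton_stalk_iff.2 (hG.2.2.2 ▸ fun h => hne ⟨η, hη, h⟩)

/-- The strict form: a proper quotient nonzero at the components through the marked point. -/
theorem euler_tensor_quot_pos (hdim : topologicalKrullDim X ≤ 1) {M E Q : X.Modules} {r : ℕ}
    (hE : FlatMod.IsFinLocFreeOfRank r E) {p : X}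
    (hqs : TFOne.IsQuasistableAtPt X k (X ↘ Spec (CommRingCat.of k)) M E r p)
    (hQ : Coh.IsCoh Q) (g : M ⟶ Q) [Epi g] (hg : ¬ Mono g)
    (hp : ∀ η ∈ genericPoints X, η ⤳ p → Nontrivial (Q.presheaf.stalk η)) :
    0 < Curv2.euler k X (CohB1.tensorMod Q E) := by
  have := Crv77.isNoetherian_of_proper k X
  obtain ⟨Z, G, π, hZ, hG, hZQ, hle⟩ := exists_quot_le (k := k) hdim hE hqs.1.1 hQ g
  obtain ⟨η, hη, hs⟩ := exists_generic p
  have hηZ := (hZQ η hη).2 (hp η hη hs)
  have hu : Z ≠ Set.univ := fun h => hg (mono_of_full hqs.1.1 g fun η' hη' => (hZQ η' hη').1 (h ▸ Set.mem_univ η'))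
  refine lt_of_lt_of_le ?_ hle
  rw [← rBeta_eq_euler_tensor hdim hE hqs.1.1.2.2 hZ.1 hG]
  exact hqs.2 Z hZ.1 (isSubcurve_of_genClosed hZ ⟨η, hη, hηZ⟩) hu
    (closure_subset_of_mem hZ.1 hηZ (specializes_iff_mem_closure.1 hs)) G π hG

end Groth.Agent.TF64
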