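import Groth.Agent.TF64.Lang.Endo
import Groth.Agent.TF64.Lang.Quot
import Groth.Agent.TF64.DecompIff

/-!
The numbers `β` as a function of the set of components.
-/

set_option autoImplicit false
set_option backward.isDefEq.respectTransparency.types false
universe u

open CategoryTheory CategoryTheory.Limits AlgebraicGeometry TopologicalSpace
open Groth.Agent.QC70 (stalkMapM germM)

namespace Groth.Agent.TF64

open scoped Classical in
/-- `χ(M_Z ⊗ E)`. -/
noncomputable def bet (k : Type u) [Field k] {X : Scheme.{u}} [X.Over (Spec (CommRingCat.of k))]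
    (M E : X.Modules) (Z : Set X) : ℤ :=
  if h : ∃ (G : X.Modules) (π : M ⟶ G), TFOne.IsQuotOn X M Z G π then
    Curv2.euler k X (CohB1.tensorMod h.choose E) else 0

section Sets

variable {X : Scheme.{u}}

theorem exists_genClosed_compl [AlgebraicGeometry.IsNoetherian X] (Z : Set X) :
    ∃ Z' : Set X, GenClosed Z' ∧ ∀ η ∈ genericPoints X, (η ∈ Z' ↔ η ∉ Z) :=
  exists_genClosed Zᶜ

/-- The components in `Z`. -/
def gens (Z : Set X) : Set X := genericPoints X ∩ Z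

theorem gens_mono {Y Z : Set X} (h : Y ⊆ Z) : gens Y ⊆ gens Z := Set.inter_subset_inter_right _ h

theorem finite_genClosed [AlgebraicGeometry.IsNoetherian X] : {Z : Set X | GenClosed Z}.Finite :=
  Set.Finite.of_finite_image (f := gens)
    (finite_genericPoints.finite_subsets.subset (by rintro S ⟨Z, -, rfl⟩; exact Set.inter_subset_left))
    fun Y hY Z hZ h => GenClosed.ext hY hZ fun η hη =>
      ⟨fun h' => ((h.subset) ⟨hη, h'⟩).2, fun h' => ((h.superset) ⟨hη, h'⟩).2⟩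

theorem eq_of_ncard_le [AlgebraicGeometry.IsNoetherian X] {Y Z : Set X} (hY : GenClosed Y) (hZ : GenClosed Z)
    (hs : Y ⊆ Z) (hn : (gens Z).ncard ≤ (gens Y).ncard) : Y = Z := by
  have h := Set.eq_of_subset_of_ncard_le (gens_mono hs) hn (finite_genericPoints.subset Set.inter_subset_left)
  exact GenClosed.ext hY hZ fun η hη =>
    ⟨fun h' => hs h', fun h' => ((h.superset) ⟨hη, h'⟩).2⟩

theorem exists_gen_mem_of_ne_empty {Z : Set X} (hZ : GenClosed Z) (h : Z ≠ ∅) : ∃ η ∈ genericPoints X, η ∈ Z := by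
  obtain ⟨x, hx⟩ := Set.nonempty_iff_ne_empty.2 h
  obtain ⟨η, hη, hηZ, -⟩ := hZ.2 x hx
  exact ⟨η, hη, hηZ⟩

theorem exists_gen_not_mem {Z : Set X} (hZ : GenClosed Z) (h : Z ≠ Set.univ) : ∃ η ∈ genericPoints X, η ∉ Z := by
  by_contra hc
  push Not at hc
  exact h (Set.eq_univ_of_univ_subset (genClosed_univ.subset hZ.1 fun η hη _ => hc η hη))

theorem genClosed_empty : GenClosed (∅ : Set X) := ⟨isClosed_empty, fun x hx => hx.elim⟩

end Sets

variable {k : Type u} [Field k] {X : Scheme.{u}} [X.Over (Spec (CommRingCat.of k))]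
  [IsProper (X ↘ Spec (CommRingCat.of k))] [AlgebraicGeometry.IsReduced X]

theorem bet_eq {M G E : X.Modules} (hM : TFOne.IsTF1 X M) {Z : Set X} {π : M ⟶ G}
    (hG : TFOne.IsQuotOn X M Z G π) : bet k M E Z = Curv2.euler k X (CohB1.tensorMod G E) := by
  have := Crv77.isNoetherian_of_proper k X
  have h : ∃ (G : X.Modules) (π : M ⟶ G), TFOne.IsQuotOn X M Z G π := ⟨G, π, hG⟩
  rw [bet, dif_pos h]
  obtain ⟨e, -⟩ := quot_unique hM.2.2 h.choose_spec.choose_spec hG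
  exact Crv77.euler_congr (k := k) (EGA73.tensIso e (Iso.refl E))

variable (hpure : ∀ C ∈ irreducibleComponents (X : Type u), topologicalKrullDim C = 1)
  {M E : X.Modules} {r : ℕ} (hE : FlatMod.IsFinLocFreeOfRank r E) (hM : TFOne.IsTF1 X M)
include hpure hE hM

theorem rBeta_eq_bet {G : X.Modules} {Z : Set X} (hZ : IsClosed Z) {π : M ⟶ G}
    (hG : TFOne.IsQuotOn X M Z G π) :
    TFOne.rBeta X k (X ↘ Spec (CommRingCat.of k)) Z hZ E r G = bet k M E Z := by
  rw [bet_eq hM hG, rBeta_eq_euler_tensor (Crv77.dim_le_one_of_components hpure) hE hM.2.2 hZ hG]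

theorem bet_empty : bet k M E (∅ : Set X) = 0 := by
  have := Crv77.isNoetherian_of_proper k X
  obtain ⟨G, π, hG⟩ := exists_quot hM.1 hM.2.1 hM.2.2 genClosed_empty
  rw [bet_eq hM hG, euler_tensor_isZero (Crv77.dim_le_one_of_components hpure) hE hG.2.1]
  rw [IsZero.iff_id_eq_zero]
  exact eq_zero_of_zeroAt hG.2.1.1 hG.2.2.1 _ fun η _ _ =>
    (quot_subsingleton hG (Set.notMem_empty η)).elim _ _

theorem bet_univ : bet k M E Set.univ = Curv2.euler k X (CohB1.tensorMod M E) := by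
  have := Crv77.isNoetherian_of_proper k X
  obtain ⟨G, π, hG⟩ := exists_quot hM.1 hM.2.1 hM.2.2 genClosed_univ
  haveI := hG.1
  haveI : Mono π := mono_of_full hM π fun η _ => quot_nontrivial hG (Set.mem_univ η)
  haveI : IsIso π := isIso_of_mono_of_epi π
  rw [bet_eq hM hG]
  exact (Crv77.euler_congr (k := k) (EGA73.tensIso (asIso π) (Iso.refl E))).symm

theorem isSemistable_iff_bet (htot : Curv2.euler k X (CohB1.tensorMod M E) = 0) :
    TFOne.IsSemistable X k (X ↘ Spec (CommRingCat.of k)) M E r ↔ ∀ Z, GenClosed Z → 0 ≤ bet k M E Z := by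
  have := Crv77.isNoetherian_of_proper k X
  refine ⟨fun h Z hZ => ?_, fun h => ⟨hM, fun Z hZ hs _ G π hG =>
    (rBeta_eq_bet (k := k) hpure hE hM hZ hG).symm ▸ h Z (genClosed_of_isSubcurve hs hZ)⟩⟩
  by_cases hu : Z = Set.univ
  · rw [hu, bet_univ (k := k) hpure hE hM, htot]
  by_cases he : Z = ∅
  · rw [he, bet_empty (k := k) hpure hE hM]
  obtain ⟨G, π, hG⟩ := exists_quot hM.1 hM.2.1 hM.2.2 hZ
  rw [← rBeta_eq_bet (k := k) hpure hE hM hZ.1 hG]
  exact h.2 Z hZ.1 (isSubcurve_of_genClosed hZ (exists_gen_mem_of_ne_empty hZ he)) hu G π hG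

/-- `β` is additive on a decomposition. -/
theorem bet_compl {Y Y' : Set X} (hd : Dec M Y) (hY' : GenClosed Y')
    (hc : ∀ η ∈ genericPoints X, (η ∈ Y' ↔ η ∉ Y)) :
    bet k M E Y + bet k M E Y' = Curv2.euler k X (CohB1.tensorMod M E) := by
  have := Crv77.isNoetherian_of_proper k X
  obtain ⟨G, π, hG⟩ := exists_quot hM.1 hM.2.1 hM.2.2 hd.1
  obtain ⟨G', π', hG'⟩ := exists_quot hM.1 hM.2.1 hM.2.2 hY'
  haveI := hd.isIso_lift hM hc hG hG'
  have hGG : Coh.IsCoh (G ⊞ G') := QC70.isCoh_of_iso (asIso (biprod.lift π π')) hM.1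
  rw [bet_eq hM hG, bet_eq hM hG',
    Crv77.euler_congr (k := k) (EGA73.tensIso (asIso (biprod.lift π π')) (Iso.refl E)),
    euler_tensor_add (k := k) (ShortComplex.Splitting.ofHasBinaryBiproduct G G').shortExact hG.2.1 hGG hG'.2.1 hE]

variable {N GY : X.Modules} (hN : TFOne.IsTF1 X N) {Y : Set X} {πY : M ⟶ GY}
  (hGY : TFOne.IsQuotOn X M Y GY πY) {α : GY ⟶ N} {β : N ⟶ kernel πY} {w : α ≫ β = 0}
  (hS : (ShortComplex.mk α β w).ShortExact)
include hN hGY hS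

/-- `β(Y ∩ Z) + β(Y ∪ Z) ≤ β^Y(Z) + β(Y)`. -/
theorem bet_compare (hr : 0 < r) (hY : GenClosed Y) {Z : Set X} (hZ : GenClosed Z) :
    ∃ W, GenClosed W ∧ (∀ η ∈ genericPoints X, (η ∈ W ↔ η ∈ Y ∧ η ∈ Z)) ∧
      bet k M E W + bet k M E (Y ∪ Z) ≤ bet k N E Z + bet k M E Y := by
  have := Crv77.isNoetherian_of_proper k X
  obtain ⟨W, hW, hWi⟩ := exists_genClosed (Y ∩ Z)
  obtain ⟨GW, πW, hGW⟩ := exists_quot hM.1 hM.2.1 hM.2.2 hW
  obtain ⟨GU, πU, hGU⟩ := exists_quot hM.1 hM.2.1 hM.2.2 (hY.union hZ)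
  obtain ⟨G1, π1, hG1⟩ := exists_quot hN.1 hN.2.1 hN.2.2 hZ
  refine ⟨W, hW, hWi, ?_⟩
  rw [← rBeta_eq_bet (k := k) hpure hE hM hW.1 hGW, ← rBeta_eq_bet (k := k) hpure hE hM (hY.union hZ).1 hGU,
    ← rBeta_eq_bet (k := k) hpure hE hN hZ.1 hG1, ← rBeta_eq_bet (k := k) hpure hE hM hY.1 hGY]
  exact (beta_compare (k := k) hpure hE hr hM hN hY.1 hZ.1 hW.1 (hY.union hZ).1 Set.subset_union_left hWi
    (fun _ _ => Iff.rfl) hGY hGW hGU hG1 hS).1

theorem dec_of_bet_eq (hr : 0 < r) (hY : GenClosed Y) (h : bet k N E Y = bet k M E Y) : Dec N Y := by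
  have := Crv77.isNoetherian_of_proper k X
  obtain ⟨G1, π1, hG1⟩ := exists_quot hN.1 hN.2.1 hN.2.2 hY
  obtain ⟨Y', hY', hc⟩ := exists_genClosed_compl Y
  obtain ⟨G2, π2, hG2⟩ := exists_quot hN.1 hN.2.1 hN.2.2 hY'
  rw [← rBeta_eq_bet (k := k) hpure hE hN hY.1 hG1, ← rBeta_eq_bet (k := k) hpure hE hM hY.1 hGY] at h
  simp only [TFOne.rBeta, add_left_inj] at h
  have h' : Curv2.euler k X G1 = Curv2.euler k X GY :=
    mul_left_cancel₀ (Int.natCast_ne_zero.2 hr.ne') h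
  exact ⟨hY, Y', G1, G2, π1, π2, hY', hc, hG1, hG2,
    (decompose_iff (k := k) hpure hM hN hc hGY hG1 hG2 hS).2 h'⟩

end Groth.Agent.TF64
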