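import Groth.Agent.TF64.Lang.Assemble
import Groth.Agent.TF64.FlatTF
import Groth.Agent.TF64.Step
import Groth.Agent.Formal27.Pullback

/-!
Modifications do not change the generic fibre.
-/

set_option autoImplicit false
set_option backward.isDefEq.respectTransparency.types false
universe u

open CategoryTheory CategoryTheory.Limits AlgebraicGeometry TopologicalSpace

namespace Groth.Agent.TF64

variable {R : Type u} [CommRing R] [IsDomain R] [IsDiscreteValuationRing R] {X : Scheme.{u}}
  {f : X ⟶ Spec (CommRingCat.of R)} [IsProper f] {Xs : Scheme.{u}}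
  [Xs.Over (Spec (CommRingCat.of (IsLocalRing.ResidueField R)))] {i : Xs ⟶ X} [AlgebraicGeometry.IsReduced Xs]
  {Xg : Scheme.{u}} [Xg.Over (Spec (CommRingCat.of (FractionRing R)))] {j : Xg ⟶ X}
  (hsq : IsPullback i (Xs ↘ Spec (CommRingCat.of (IsLocalRing.ResidueField R))) f
      (Spec.map (CommRingCat.ofHom (IsLocalRing.residue R))))
  (hgen : IsPullback j (Xg ↘ Spec (CommRingCat.of (FractionRing R))) f
      (Spec.map (CommRingCat.ofHom (algebraMap R (FractionRing R)))))

omit [IsProper f] [AlgebraicGeometry.IsReduced Xs] in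
include hgen in
theorem isIso_pullback_smulMod {M : X.Modules} {t : R} (ht : t ≠ 0) :
    letI : X.Over (Spec (CommRingCat.of R)) := ⟨f⟩
    IsIso ((Scheme.Modules.pullback j).map (Formal.smulMod R M t)) := by
  letI : X.Over (Spec (CommRingCat.of R)) := ⟨f⟩
  letI : Xg.Over (Spec (CommRingCat.of R)) := ⟨j ≫ f⟩
  rw [Formal27.pullback_map_smulMod j rfl]
  let N := (Scheme.Modules.pullback j).obj M
  have h : Formal.smulMod R N t = Formal.smulMod (FractionRing R) N (algebraMap R (FractionRing R) t) := by
    refine congrArg (Formal.smulModΓ N) ?_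
    change Coh.toGlobal (j ≫ f) t = _
    rw [hgen.w]
    simp only [Coh.toGlobal, Scheme.Hom.comp_appTop, CommRingCat.hom_comp, RingHom.coe_comp, Function.comp_apply]
    exact congrArg (Xg ↘ Spec (CommRingCat.of (FractionRing R))).appTop.hom
      (congr($(Scheme.ΓSpecIso_inv_naturality (CommRingCat.ofHom (algebraMap R (FractionRing R)))) t) :).symm
  rw [h]
  have h0 : algebraMap R (FractionRing R) t ≠ 0 :=
    fun h' => ht (IsFractionRing.injective R (FractionRing R) (h'.trans (map_zero _).symm))
  refine ⟨Formal.smulMod (FractionRing R) N (algebraMap R (FractionRing R) t)⁻¹, ?_, ?_⟩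
  · rw [← Formal27.smulMod_mul, inv_mul_cancel₀ h0, Formal27.smulMod_one]
  · rw [← Formal27.smulMod_mul, mul_inv_cancel₀ h0, Formal27.smulMod_one]

include hsq hgen in
/-- A modification is again an extension. -/
theorem Good.modify {I I' : X.Modules} (h : Good f i j I I') {Y : Set Xs} {G : Xs.Modules}
    {π : (Scheme.Modules.pullback i).obj I' ⟶ G}
    (hG : TFOne.IsQuotOn Xs ((Scheme.Modules.pullback i).obj I') Y G π) :
    Good f i j I (kernel (toPush i π)) := by
  letI : X.Over (Spec (CommRingCat.of R)) := ⟨f⟩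
  haveI : IsProper (X ↘ Spec (CommRingCat.of R)) := ‹IsProper f›
  obtain ⟨t, ht⟩ := IsPrincipalIdealRing.principal (IsLocalRing.maximalIdeal R)
  rw [Ideal.submodule_span_eq] at ht
  have ht0 : t ≠ 0 := fun h => IsDiscreteValuationRing.not_a_field R (by simp [ht, h])
  have := isClosedImmersion_special _ i hsq
  obtain ⟨hN, hT, τ, hτ, -⟩ := exists_modification_maps (X := X) hsq h.coh h.flat h.tf1 hG ht
  have : IsLocallyNoetherian X := LocallyOfFiniteType.isLocallyNoetherian (X ↘ Spec (CommRingCat.of R))
  have : IsLocallyNoetherian Xs := inferInstance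
  have hPc : Coh.IsCoh ((Scheme.Modules.pushforward i).obj G) := QC70.isCoh_pushforward i G hG.2.1
  haveI := mono_smulMod_of_flat h.flat ht0
  haveI : Mono (Formal.smulMod R (kernel (toPush i π)) t) :=
    haveI : Mono (Formal.smulMod R (kernel (toPush i π)) t ≫ kernel.ι (toPush i π)) := by
      rw [← Formal27.smulMod_comp]; infer_instance
    mono_of_mono _ (kernel.ι (toPush i π))
  refine ⟨QC70.isCoh_kernel _ h.coh hPc.1, isFlatOver_of_mono_smulMod ht, hT, ?_⟩
  obtain ⟨e⟩ := h.iso
  have hjτ : kernel.ι (toPush i π) ≫ τ = Formal.smulMod R (kernel (toPush i π)) t := by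
    rw [← cancel_mono (kernel.ι (toPush i π)), Category.assoc, hτ, Formal27.smulMod_comp]
  let F := Scheme.Modules.pullback j
  haveI h1 : IsIso (F.map (τ ≫ kernel.ι (toPush i π))) := by rw [hτ]; exact isIso_pullback_smulMod hgen ht0
  haveI h2 : IsIso (F.map (kernel.ι (toPush i π) ≫ τ)) := by rw [hjτ]; exact isIso_pullback_smulMod hgen ht0
  rw [Functor.map_comp] at h1 h2
  haveI : IsSplitMono (F.map τ) := IsSplitMono.mk'
    ⟨F.map (kernel.ι (toPush i π)) ≫ inv (F.map τ ≫ F.map (kernel.ι (toPush i π))), by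
      rw [← Category.assoc, IsIso.hom_inv_id]⟩
  haveI : Epi (F.map τ) :=
    epi_of_epi_fac (f := F.map (kernel.ι (toPush i π))) (g := F.map τ)
      (h := F.map (kernel.ι (toPush i π)) ≫ F.map τ) rfl
  haveI : IsIso (F.map τ) := isIso_of_epi_of_isSplitMono _
  exact ⟨(asIso (F.map τ)).symm ≪≫ e⟩

omit [AlgebraicGeometry.IsReduced Xs] in
include hsq hgen in
/-- All extensions have the same Euler characteristic on the special fibre. -/
theorem Good.euler_eq {I I' : X.Modules} (hI : Coh.IsCoh I) (hIf : FlatMod.IsFlatOver f I)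
    (h : Good f i j I I') :
    Curv2.euler (IsLocalRing.ResidueField R) Xs ((Scheme.Modules.pullback i).obj I') =
      Curv2.euler (IsLocalRing.ResidueField R) Xs ((Scheme.Modules.pullback i).obj I) := by
  obtain ⟨e⟩ := h.iso
  rw [← euler_const hsq h.coh h.flat (Ω := FractionRing R) hgen, ← euler_const hsq hI hIf (Ω := FractionRing R) hgen]
  exact Crv77.euler_congr (k := FractionRing R) e

end Groth.Agent.TF64
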