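import Groth.Agent.TF64.Lang.Contra
import Groth.Agent.TF64.Lang.Modify
import Groth.Agent.TF64.Lang.Bet

/-!
An endless chain of decomposing modifications contradicts stability or simplicity of the generic fibre.
-/

set_option autoImplicit false
set_option backward.isDefEq.respectTransparency.types false
universe u

open CategoryTheory CategoryTheory.Limits AlgebraicGeometry TopologicalSpace
open Groth.Agent.QC70 (stalkMapM germM)

namespace Groth.Agent.TF64

section Stalk

variable {X : Scheme.{u}} [AlgebraicGeometry.IsNoetherian X] [AlgebraicGeometry.IsReduced X]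

theorem not_isZero_quot {M G : X.Modules} {Z : Set X} {π : M ⟶ G} (hG : TFOne.IsQuotOn X M Z G π) {x : X}
    (hx : x ∈ Z) : ¬ IsZero G := fun h => by
  have := quot_nontrivial hG hx
  obtain ⟨y, hy⟩ := exists_ne (0 : G.presheaf.stalk x)
  exact hy ((stalkMapM_id G x y).symm.trans
    ((congrArg (fun f : G ⟶ G => stalkMapM f x y) (h.eq_of_src (𝟙 G) 0)).trans (stalkMapM_zero x y)))

/-- The quotient on `Z` is injective at a point seen only by the components in `Z`. -/
theorem injective_quot_stalk {M G : X.Modules} (hM : TFOne.IsTF1 X M) {Z : Set X} {π : M ⟶ G}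
    (hG : TFOne.IsQuotOn X M Z G π) {x : X} (hx : ∀ η ∈ genericPoints X, η ⤳ x → η ∈ Z) :
    Function.Injective (stalkMapM π x) := by
  have hK : Coh.IsCoh (kernel π) := QC70.isCoh_kernel π hM.1 hG.2.1.1
  have h0 : Subsingleton ((kernel π).presheaf.stalk x) := not_nontrivial_iff_subsingleton.1 fun hn => by
    obtain ⟨y, hy, hyx⟩ := FBase64.AssSheaf.exists_ass_specializes _ hK.1 x hn
    have hyg := ass_subset_gen (isTorsionFree_of_mono (kernel.ι π) hM.2.1) hy
    have := FBase64.AssSheaf.nontrivial_stalk_of_mem_ass _ y hy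
    obtain ⟨c, hc⟩ := exists_ne (0 : (kernel π).presheaf.stalk y)
    refine hc (QC70.injective_stalkMapM_of_mono (kernel.ι π) y
      ((quot_bijective hG hM.2.2 hyg (hx y hyg hyx)).1 ?_))
    rw [← stalkMapM_comp, kernel.condition, stalkMapM_zero, map0, map0]
  refine (injective_iff_map_eq_zero (QC70.stalkLinear π x)).2 fun m hm => ?_
  obtain ⟨c, rfl⟩ := QC70.stalkMapM_exact (ShortComplex.mk _ _ (kernel.condition π))
    (ShortComplex.exact_of_f_is_kernel _ (kernelIsKernel π)) x m hm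
  rw [Subsingleton.elim c 0]
  exact map0 _ _

end Stalk

variable {R : Type u} [CommRing R] [IsDomain R] [IsDiscreteValuationRing R] {X : Scheme.{u}}
  {f : X ⟶ Spec (CommRingCat.of R)} [Flat f] [IsProper f] {Xs : Scheme.{u}}
  [Xs.Over (Spec (CommRingCat.of (IsLocalRing.ResidueField R)))] {i : Xs ⟶ X} [AlgebraicGeometry.IsReduced Xs]
  {Xg : Scheme.{u}} [Xg.Over (Spec (CommRingCat.of (FractionRing R)))] {j : Xg ⟶ X}
  (hsq : IsPullback i (Xs ↘ Spec (CommRingCat.of (IsLocalRing.ResidueField R))) f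
      (Spec.map (CommRingCat.ofHom (IsLocalRing.residue R))))
  (hgen : IsPullback j (Xg ↘ Spec (CommRingCat.of (FractionRing R))) f
      (Spec.map (CommRingCat.ofHom (algebraMap R (FractionRing R)))))
  (hpure : ∀ C ∈ irreducibleComponents (Xs : Type u), topologicalKrullDim C = 1)
  (hgi : ∀ (C : Set Xs) (hC : C ∈ irreducibleComponents (Xs : Type u)),
      GeometricallyIntegral (VecSt.subschι Xs C (isClosed_of_mem_irreducibleComponents C hC) ≫
        (Xs ↘ Spec (CommRingCat.of (IsLocalRing.ResidueField R)))))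
  {I : X.Modules}

variable (f i j I) in
/-- Members of a chain: extensions decomposed at `Y`, closed under modification at `Y`. -/
def IsChain (P : X.Modules → Prop) (Y : Set Xs) : Prop :=
  ∀ I', P I' → Good f i j I I' ∧ Dec ((Scheme.Modules.pullback i).obj I') Y ∧
    ∀ (G : Xs.Modules) (π : (Scheme.Modules.pullback i).obj I' ⟶ G),
      TFOne.IsQuotOn Xs ((Scheme.Modules.pullback i).obj I') Y G π → P (kernel (toPush i π))

omit [Flat f] in
include hsq in
theorem IsChain.exists_quotient (H : Hat f i) {P : X.Modules → Prop} {Y : Set Xs} (hP : IsChain f i j I P Y)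
    {I' : X.Modules} (h : P I') {G : Xs.Modules} {π : (Scheme.Modules.pullback i).obj I' ⟶ G}
    (hG : TFOne.IsQuotOn Xs ((Scheme.Modules.pullback i).obj I') Y G π) :
    ∃ (F : H.X₂.Modules) (p : (Scheme.Modules.pullback H.v).obj I' ⟶ F),
      Coh.IsCoh F ∧ FlatMod.IsFlatOver H.f₂ F ∧ Epi p ∧
      ∃ e : (Scheme.Modules.pullback H.i₂).obj F ≅ G,
        (Scheme.Modules.pullback H.i₂).map p ≫ e.hom = (pullIso H.hi I').hom ≫ π := by
  have := isProper_special hsq
  have := Crv77.isNoetherian_of_proper (IsLocalRing.ResidueField R) Xs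
  obtain ⟨Y', hY', hc⟩ := exists_genClosed_compl Y
  refine H.exists_quotient hsq (hP I' h).2.1.1 hY' hc P (fun J hJ => ?_) h hG
  obtain ⟨hg, hd, hn⟩ := hP J hJ
  exact ⟨hg.coh, hg.flat, hg.tf1, fun G π hG => ⟨hn G π hG, fun G' π' hG' => hd.isIso_lift hg.tf1 hc hG hG'⟩⟩

omit [IsProper f] [Flat f] [AlgebraicGeometry.IsReduced Xs] [Xs.Over (Spec (CommRingCat.of (IsLocalRing.ResidueField R)))] in
include hgen in
theorem GenPt.exists_to_generic {H : Hat f i} (g : GenPt H) {I' : X.Modules} (h : Good f i j I I') :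
    ∃ (ψ : FractionRing R →+* g.Ω) (b : g.Y ⟶ Xg), b ≫ j = g.a ∧
      g.t = Spec.map (CommRingCat.ofHom (ψ.comp (algebraMap R (FractionRing R)))) ∧
      IsPullback b g.qY (Xg ↘ Spec (CommRingCat.of (FractionRing R))) (Spec.map (CommRingCat.ofHom ψ)) ∧
      Nonempty ((Scheme.Modules.pullback b).obj ((Scheme.Modules.pullback j).obj I) ≅
        (Scheme.Modules.pullback g.a).obj I') := by
  have ha := g.ha
  rw [g.t_eq] at ha
  obtain ⟨b, hb, hbe⟩ := exists_fac hgen ha
  obtain ⟨e⟩ := h.iso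
  exact ⟨_, b, hb, g.t_eq, hbe, ⟨(Scheme.Modules.pullback b).mapIso e.symm ≪≫ pullIso hb I'⟩⟩

include hsq hgen hpure hgi in
/-- A chain along a set with negative `β` makes the generic fibre unstable. -/
theorem false_of_chain_neg {E : X.Modules} {r : ℕ} (hE : FlatMod.IsFinLocFreeOfRank r E)
    (hIg : TFOne.FibSemistable (Xg ↘ Spec (CommRingCat.of (FractionRing R)))
      ((Scheme.Modules.pullback j).obj I) ((Scheme.Modules.pullback j).obj E) r)
    {P : X.Modules → Prop} {Y : Set Xs} (hP : IsChain f i j I P Y) {I' : X.Modules} (h : P I')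
    (htot : Curv2.euler (IsLocalRing.ResidueField R) Xs
      (CohB1.tensorMod ((Scheme.Modules.pullback i).obj I') ((Scheme.Modules.pullback i).obj E)) = 0)
    (hb : bet (IsLocalRing.ResidueField R) ((Scheme.Modules.pullback i).obj I')
      ((Scheme.Modules.pullback i).obj E) Y < 0) : False := by
  obtain ⟨hg, hd, -⟩ := hP I' h
  have := isProper_special hsq
  have := Crv77.isNoetherian_of_proper (IsLocalRing.ResidueField R) Xs
  obtain ⟨G, π, hG⟩ := exists_quot hg.tf1.1 hg.tf1.2.1 hg.tf1.2.2 hd.1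
  obtain ⟨H⟩ := exists_hat hsq
  obtain ⟨F, p, hF, hFf, hp, e, he⟩ := hP.exists_quotient hsq H h hG
  obtain ⟨g⟩ := exists_genPt H
  obtain ⟨hq, hred, hdim⟩ := fibre_geom hsq hpure hgi g.ha
  letI : g.Y.Over (Spec (CommRingCat.of g.Ω)) := ⟨g.qY⟩
  haveI : IsProper (g.Y ↘ Spec (CommRingCat.of g.Ω)) := hq
  haveI := hred
  haveI := hp
  haveI := g.epi_q p
  obtain ⟨ψ, b, hbj, -, hbe, ⟨eI⟩⟩ := g.exists_to_generic hgen hg
  have hss : TFOne.IsSemistable g.Y g.Ω g.qY ((Scheme.Modules.pullback g.a).obj I')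
      ((Scheme.Modules.pullback g.a).obj E) r :=
    isSemistable_congr g.qY eI (pullIso hbj E) (hIg g.Ω _ g.Y b g.qY hbe)
  have h0 := euler_tensor_quot_nonneg (k := g.Ω) hdim (isFinLocFreeOfRank_pull g.a hE) hss
    (by rw [euler_tensor_const hsq hg.coh hg.flat hE g.ha, htot]) (isCoh_pull g.a₂ hF) (g.q p)
  rw [g.euler_q hsq hG.2.1 hE hF hFf e, ← bet_eq hg.tf1 hG] at h0
  omega

include hsq hgen hpure hgi in
/-- Chains along two complementary nonempty sets make the generic fibre non-simple. -/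
theorem false_of_chains {P P' : X.Modules → Prop} {Y Y' : Set Xs}
    (hIg : TFOne.FibSimple (Xg ↘ Spec (CommRingCat.of (FractionRing R))) ((Scheme.Modules.pullback j).obj I))
    (hP : IsChain f i j I P Y) (hP' : IsChain f i j I P' Y') {I' : X.Modules} (h : P I') (h' : P' I')
    (hc : ∀ η ∈ genericPoints Xs, (η ∈ Y' ↔ η ∉ Y)) (hY : Y.Nonempty) (hY' : Y'.Nonempty) : False := by
  obtain ⟨hg, hd, -⟩ := hP I' h
  obtain ⟨-, hd', -⟩ := hP' I' h'
  have := isProper_special hsq
  have := Crv77.isNoetherian_of_proper (IsLocalRing.ResidueField R) Xs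
  obtain ⟨G, π, hG⟩ := exists_quot hg.tf1.1 hg.tf1.2.1 hg.tf1.2.2 hd.1
  obtain ⟨G', π', hG'⟩ := exists_quot hg.tf1.1 hg.tf1.2.1 hg.tf1.2.2 hd'.1
  obtain ⟨H⟩ := exists_hat hsq
  obtain ⟨F, p, hF, hFf, hp, e, he⟩ := hP.exists_quotient hsq H h hG
  obtain ⟨F', p', hF', hFf', hp', e', he'⟩ := hP'.exists_quotient hsq H h' hG'
  obtain ⟨g⟩ := exists_genPt H
  obtain ⟨ψ, b, hbj, -, hbe, ⟨eI⟩⟩ := g.exists_to_generic hgen hg
  exact g.not_simple p hsq hg.coh hg.flat p' hF hFf hF' hFf' (hd.isIso_lift hg.tf1 hc hG hG')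
    (not_isZero_quot hG hY.some_mem) (not_isZero_quot hG' hY'.some_mem) e e' he he'
    (isSimple_congr g.qY eI (hIg g.Ω _ g.Y b g.qY hbe))

include hsq hgen hpure hgi in
/-- A chain with `β = 0` along a proper set of components seen by the section contradicts quasistability. -/
theorem false_of_chain_zero {E : X.Modules} {r : ℕ} (hE : FlatMod.IsFinLocFreeOfRank r E)
    (σ : Spec (CommRingCat.of R) ⟶ X) (hσ : σ ≫ f = 𝟙 _)
    (σg : Spec (CommRingCat.of (FractionRing R)) ⟶ Xg)
    (hσg : σg ≫ (Xg ↘ Spec (CommRingCat.of (FractionRing R))) = 𝟙 _)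
    (hσgj : σg ≫ j = Spec.map (CommRingCat.ofHom (algebraMap R (FractionRing R))) ≫ σ)
    (hIg : TFOne.FibQuasistableAlong (Xg ↘ Spec (CommRingCat.of (FractionRing R)))
      ((Scheme.Modules.pullback j).obj I) ((Scheme.Modules.pullback j).obj E) σg hσg r)
    {z : Xs} (hz : i z = σ (IsLocalRing.closedPoint R))
    {P : X.Modules → Prop} {Y : Set Xs} (hP : IsChain f i j I P Y) (hzY : ∀ η ∈ genericPoints Xs, η ⤳ z → η ∈ Y)
    (hY : ∃ η ∈ genericPoints Xs, η ∉ Y) {I' : X.Modules} (h : P I')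
    (hb : bet (IsLocalRing.ResidueField R) ((Scheme.Modules.pullback i).obj I')
      ((Scheme.Modules.pullback i).obj E) Y = 0) : False := by
  obtain ⟨hg, hd, -⟩ := hP I' h
  have := isProper_special hsq
  have := Crv77.isNoetherian_of_proper (IsLocalRing.ResidueField R) Xs
  haveI := isClosedImmersion_special _ i hsq
  obtain ⟨G, π, hG⟩ := exists_quot hg.tf1.1 hg.tf1.2.1 hg.tf1.2.2 hd.1
  obtain ⟨H⟩ := exists_hat hsq
  obtain ⟨F, p, hF, hFf, hp, e, he⟩ := hP.exists_quotient hsq H h hG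
  obtain ⟨g⟩ := exists_genPt H
  obtain ⟨hq, hred, hdim⟩ := fibre_geom hsq hpure hgi g.ha
  letI : g.Y.Over (Spec (CommRingCat.of g.Ω)) := ⟨g.qY⟩
  haveI : IsProper (g.Y ↘ Spec (CommRingCat.of g.Ω)) := hq
  haveI := hred
  haveI := hp
  haveI := g.epi_q p
  obtain ⟨ψ, b, hbj, hψ, hbe, ⟨eI⟩⟩ := g.exists_to_generic hgen hg
  -- the section on the completed family
  let σ₂ : Spec (CommRingCat.of H.R₂) ⟶ H.X₂ := H.hv.lift (Spec.map (CommRingCat.ofHom H.ρ) ≫ σ) (𝟙 _)
    (by rw [Category.assoc, hσ, Category.comp_id, Category.id_comp])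
  let y : Spec (CommRingCat.of g.Ω) ⟶ g.Y := g.ha₂.lift (Spec.map (CommRingCat.ofHom g.φ) ≫ σ₂) (𝟙 _)
    (by rw [Category.assoc, H.hv.lift_snd, Category.comp_id, Category.id_comp])
  have hy1 : y ≫ g.a₂ = Spec.map (CommRingCat.ofHom g.φ) ≫ σ₂ := g.ha₂.lift_fst _ _ _
  have hy2 : y ≫ g.qY = 𝟙 _ := g.ha₂.lift_snd _ _ _
  have hy3 : y ≫ g.a = g.t ≫ σ := by
    rw [GenPt.a, GenPt.t, reassoc_of% hy1, H.hv.lift_fst, Category.assoc]
  have hyb : y ≫ b = Spec.map (CommRingCat.ofHom ψ) ≫ σg := by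
    refine hgen.hom_ext ?_ ?_
    · rw [Category.assoc, hbj, hy3, hψ, Category.assoc, hσgj, ← Category.assoc (Spec.map (CommRingCat.ofHom ψ)),
        ← Spec.map_comp, ← CommRingCat.ofHom_comp]
    · simp only [Category.assoc, hσg, Category.comp_id, hbe.w]
      exact (Category.assoc _ _ _).symm.trans ((congrArg (· ≫ _) hy2).trans (Category.id_comp _))
  have hqs : TFOne.IsQuasistableAtPt g.Y g.Ω g.qY ((Scheme.Modules.pullback g.a).obj I')
      ((Scheme.Modules.pullback g.a).obj E) r (y (IsLocalRing.closedPoint g.Ω)) :=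
    isQuasistableAtPt_congr g.qY eI (pullIso hbj E) (hIg g.Ω _ g.Y b g.qY hbe y hyb hy2)
  -- the marked point specialises to `z`
  have hs : g.a₂ (y (IsLocalRing.closedPoint g.Ω)) ⤳ H.i₂ z := by
    have hz2 : σ₂ (IsLocalRing.closedPoint H.R₂) = H.i₂ z := by
      letI : H.X₂.Over (Spec (CommRingCat.of H.R₂)) := ⟨H.f₂⟩
      obtain ⟨z', hz'⟩ := (mem_range_special (X := H.X₂) (x := σ₂ (IsLocalRing.closedPoint H.R₂)) H.hsq₂).2
        (congrArg (fun φ : Spec (CommRingCat.of H.R₂) ⟶ Spec (CommRingCat.of H.R₂) =>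
          φ (IsLocalRing.closedPoint H.R₂)) (H.hv.lift_snd _ _ _))
      have hρ : Spec.map (CommRingCat.ofHom H.ρ) (IsLocalRing.closedPoint H.R₂) = IsLocalRing.closedPoint R := by
        obtain ⟨u, hu⟩ := IsPrincipalIdealRing.principal (IsLocalRing.maximalIdeal R)
        rw [Ideal.submodule_span_eq] at hu
        refine PrimeSpectrum.ext (le_antisymm ?_ ?_)
        · exact IsLocalRing.le_maximalIdeal
            (Ideal.IsPrime.ne_top (Ideal.IsPrime.comap (hK := (IsLocalRing.maximalIdeal.isMaximal H.R₂).isPrime) H.ρ))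
        · change IsLocalRing.maximalIdeal R ≤ Ideal.comap H.ρ (IsLocalRing.maximalIdeal H.R₂)
          rw [← Ideal.map_le_iff_le_comap, hu, Ideal.map_span, Set.image_singleton, H.uniformizer u hu]
      rw [← hz']
      congr 1
      refine i.isClosedEmbedding.injective ?_
      have h1 : i z' = (σ₂ ≫ H.v) (IsLocalRing.closedPoint H.R₂) :=
        (congrArg (fun φ : Xs ⟶ X => φ z') H.hi.symm).trans (congrArg H.v hz')
      rw [h1, H.hv.lift_fst, Scheme.Hom.comp_apply, hρ, hz]
    rw [← hz2, ← Scheme.Hom.comp_apply, hy1, Scheme.Hom.comp_apply]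
    exact (IsLocalRing.specializes_closedPoint _).map σ₂.continuous
  have hinj : Function.Injective (stalkMapM ((Scheme.Modules.pullback H.i₂).map p) z) := by
    have : (Scheme.Modules.pullback H.i₂).map p = (pullIso H.hi I').hom ≫ π ≫ e.inv := by
      rw [← reassoc_of% he, e.hom_inv_id, Category.comp_id]
    rw [this]
    intro a b hab
    simp only [stalkMapM_comp] at hab
    exact QC70.injective_stalkMapM_of_mono _ z (injective_quot_stalk hg.tf1 hG hzY
      (QC70.injective_stalkMapM_of_mono e.inv z hab))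
  have hpos := euler_tensor_quot_pos (k := g.Ω) hdim (isFinLocFreeOfRank_pull g.a hE) hqs
    (isCoh_pull g.a₂ hF) (g.q p) (g.not_mono_q p hsq hg.coh hg.flat hg.tf1 hF hFf hG e he hY)
    fun η hη hηs => g.nontrivial_q p hsq hg.coh hg.flat hF hFf z ((hηs.map g.a₂.continuous).trans hs) hinj
      (nontrivial_stalk hqs.1.1.2.2 hη)
  rw [g.euler_q hsq hG.2.1 hE hF hFf e, ← bet_eq hg.tf1 hG, hb] at hpos
  exact lt_irrefl _ hpos

end Groth.Agent.TF64
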