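import Groth.Agent.TF64.Lang.FieldCond
import Groth.Prelude.Def_TFOne

/-!
The fibre conditions only depend on the modules up to isomorphism; splitting points of a trait.
-/

set_option autoImplicit false
set_option backward.isDefEq.respectTransparency.types false
universe u

open CategoryTheory CategoryTheory.Limits AlgebraicGeometry TopologicalSpace
open Groth.Agent.QC70 (stalkMapM germM)

namespace Groth.Agent.TF64

variable {X : Scheme.{u}} {M M' E E' : X.Modules}

theorem isTF1_congr (e : M ≅ M') (h : TFOne.IsTF1 X M) : TFOne.IsTF1 X M' :=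
  ⟨QC70.isCoh_of_iso e h.1, isTorsionFree_of_mono e.inv h.2.1, fun η hη => by
    obtain ⟨ε⟩ := h.2.2 η hη
    exact ⟨(LinearEquiv.ofBijective (QC70.stalkLinear e.inv η)
      ⟨QC70.injective_stalkMapM_of_mono _ η, QC70.surjective_stalkMapM_of_epi _ η⟩).trans ε⟩⟩

theorem isQuotOn_congr (e : M ≅ M') {Z : Set X} {G : X.Modules} {π : M' ⟶ G}
    (h : TFOne.IsQuotOn X M' Z G π) : TFOne.IsQuotOn X M Z G (e.hom ≫ π) :=
  haveI := h.1
  ⟨inferInstance, h.2⟩

variable {k : Type u} [Field k] (q : X ⟶ Spec (CommRingCat.of k)) {r : ℕ}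

theorem rBeta_congr (eE : E ≅ E') (Z : Set X) (hZ : IsClosed Z) (G : X.Modules) :
    TFOne.rBeta X k q Z hZ E r G = TFOne.rBeta X k q Z hZ E' r G := by
  letI : X.Over (Spec (CommRingCat.of k)) := ⟨q⟩
  letI : (VecSt.subsch X Z hZ).Over (Spec (CommRingCat.of k)) := ⟨VecSt.subschι X Z hZ ≫ q⟩
  have h := Crv77.euler_congr (k := k) ((Scheme.Modules.pullback (VecSt.subschι X Z hZ)).mapIso eE)
  simp only [TFOne.rBeta, Curv2.deg, h]

theorem isSemistable_congr (e : M ≅ M') (eE : E ≅ E') (h : TFOne.IsSemistable X k q M E r) :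
    TFOne.IsSemistable X k q M' E' r :=
  ⟨isTF1_congr e h.1, fun Z hZ hs hu G π hG =>
    rBeta_congr q eE Z hZ G ▸ h.2 Z hZ hs hu G (e.hom ≫ π) (isQuotOn_congr e hG)⟩

theorem isQuasistableAtPt_congr (e : M ≅ M') (eE : E ≅ E') {p : X}
    (h : TFOne.IsQuasistableAtPt X k q M E r p) : TFOne.IsQuasistableAtPt X k q M' E' r p :=
  ⟨isSemistable_congr q e eE h.1, fun Z hZ hs hu hp G π hG =>
    rBeta_congr q eE Z hZ G ▸ h.2 Z hZ hs hu hp G (e.hom ≫ π) (isQuotOn_congr e hG)⟩

theorem isSimple_congr (e : M ≅ M') (h : TFOne.IsSimple X k q M) : TFOne.IsSimple X k q M' := by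
  letI : X.Over (Spec (CommRingCat.of k)) := ⟨q⟩
  refine ⟨fun h0 => h.1 (h0.of_iso e), fun φ => ?_⟩
  obtain ⟨c, hc⟩ := h.2 (e.hom ≫ φ ≫ e.inv)
  refine ⟨c, ?_⟩
  rw [← cancel_epi e.hom, Formal27.smulMod_comp, ← cancel_mono e.inv, Category.assoc, hc,
    Category.assoc, e.hom_inv_id, Category.comp_id]

section Points

variable {R : Type u} [CommRing R]

/-- A point of `X_{R'}` over a point of `Spec R'`: a square over a composite. -/
theorem exists_fac {Y X' : Scheme.{u}} {R' Ω : Type u} [CommRing R'] [CommRing Ω] {f : X ⟶ Spec (CommRingCat.of R)}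
    {ρ : R →+* R'} {ψ : R' →+* Ω} {q' : X' ⟶ Spec (CommRingCat.of R')} {i : X' ⟶ X}
    (hsq : IsPullback i q' f (Spec.map (CommRingCat.ofHom ρ))) {a : Y ⟶ X} {qY : Y ⟶ Spec (CommRingCat.of Ω)}
    (ha : IsPullback a qY f (Spec.map (CommRingCat.ofHom (ψ.comp ρ)))) :
    ∃ b : Y ⟶ X', b ≫ i = a ∧ IsPullback b qY q' (Spec.map (CommRingCat.ofHom ψ)) := by
  have he : Spec.map (CommRingCat.ofHom ψ) ≫ Spec.map (CommRingCat.ofHom ρ) =
      Spec.map (CommRingCat.ofHom (ψ.comp ρ)) := by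
    rw [← Spec.map_comp, ← CommRingCat.ofHom_comp]
  refine ⟨hsq.lift a (qY ≫ Spec.map (CommRingCat.ofHom ψ)) (by rw [Category.assoc, he]; exact ha.w),
    hsq.lift_fst _ _ _, IsPullback.of_right ?_ (hsq.lift_snd _ _ _) hsq⟩
  rw [hsq.lift_fst, he]
  exact ha

/-- A field-valued point of a trait is generic or special. -/
theorem point_cases [IsDomain R] [IsDiscreteValuationRing R] {Ω : Type u} [Field Ω]
    (t : Spec (CommRingCat.of Ω) ⟶ Spec (CommRingCat.of R)) :
    (∃ ψ : IsLocalRing.ResidueField R →+* Ω,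
        t = Spec.map (CommRingCat.ofHom (ψ.comp (IsLocalRing.residue R)))) ∨
      (∃ ψ : FractionRing R →+* Ω,
        t = Spec.map (CommRingCat.ofHom (ψ.comp (algebraMap R (FractionRing R))))) := by
  let φ : R →+* Ω := (Spec.preimage t).hom
  have ht : t = Spec.map (CommRingCat.ofHom φ) := (Spec.map_preimage t).symm
  by_cases h : IsLocalRing.maximalIdeal R ≤ RingHom.ker φ
  · refine Or.inl ⟨Ideal.Quotient.lift _ φ fun a ha => h ha, ?_⟩
    rw [ht]
    rfl
  · have hk : RingHom.ker φ = ⊥ := by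
      by_contra hne
      exact h (le_of_eq (IsLocalRing.eq_maximalIdeal (Ideal.IsPrime.isMaximal (RingHom.ker_isPrime φ) hne)).symm)
    have hinj : Function.Injective φ := (RingHom.injective_iff_ker_eq_bot φ).2 hk
    refine Or.inr ⟨IsFractionRing.lift hinj, ?_⟩
    rw [ht]
    congr 2
    exact (RingHom.ext fun x => (IsFractionRing.lift_algebraMap hinj x).symm)

end Points

end Groth.Agent.TF64
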