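import Groth.Agent.TF64.Lang.Hat
import Groth.Agent.KSchm95.Local

/-!
A limit quotient contradicts stability or simplicity of the generic fibre.
-/

set_option autoImplicit false
set_option backward.isDefEq.respectTransparency.types false
universe u

open CategoryTheory CategoryTheory.Limits AlgebraicGeometry TopologicalSpace
open Groth.Agent.QC70 (stalkMapM germM)

namespace Groth.Agent.TF64

variable {R : Type u} [CommRing R] [IsDomain R] [IsDiscreteValuationRing R] {X : Scheme.{u}}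
  {f : X ⟶ Spec (CommRingCat.of R)} [IsProper f] {Xs : Scheme.{u}} {i : Xs ⟶ X}

/-- A geometric generic point of the completed family. -/
structure GenPt (H : Hat f i) where
  Ω : Type u
  [field : Field Ω]
  [closed : IsAlgClosed Ω]
  φ : H.R₂ →+* Ω
  inj : Function.Injective φ
  Y : Scheme.{u}
  a₂ : Y ⟶ H.X₂
  [flat : Flat a₂]
  qY : Y ⟶ Spec (CommRingCat.of Ω)
  ha₂ : IsPullback a₂ qY H.f₂ (Spec.map (CommRingCat.ofHom φ))

attribute [instance] GenPt.field GenPt.closed GenPt.flat

omit [IsProper f] in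
theorem exists_genPt (H : Hat f i) : Nonempty (GenPt H) := by
  let K := FractionRing H.R₂
  let Ω := AlgebraicClosure K
  let φ : H.R₂ →+* Ω := (algebraMap K Ω).comp (algebraMap H.R₂ K)
  have hfl : RingHom.Flat φ :=
    (RingHom.flat_algebraMap_iff.2 (IsLocalization.flat K (nonZeroDivisors H.R₂))).comp
      (RingHom.flat_algebraMap_iff.2 inferInstance)
  haveI : Flat (Spec.map (CommRingCat.ofHom φ)) := (HasRingHomProperty.Spec_iff (P := @Flat)).2 hfl
  exact ⟨{
    Ω := Ω
    φ := φ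
    inj := (algebraMap K Ω).injective.comp (IsFractionRing.injective H.R₂ K)
    Y := _
    a₂ := pullback.fst _ _
    qY := pullback.snd _ _
    ha₂ := IsPullback.of_hasPullback _ _ }⟩

variable {H : Hat f i} (g : GenPt H)

/-- The point as a point of the original family. -/
noncomputable abbrev GenPt.t : Spec (CommRingCat.of g.Ω) ⟶ Spec (CommRingCat.of R) :=
  Spec.map (CommRingCat.ofHom g.φ) ≫ Spec.map (CommRingCat.ofHom H.ρ)

/-- The fibre in the original family. -/
abbrev GenPt.a : g.Y ⟶ X := g.a₂ ≫ H.v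

omit [IsProper f] in
theorem GenPt.ha : IsPullback g.a g.qY f g.t := g.ha₂.paste_horiz H.hv

omit [IsProper f] in
theorem GenPt.t_eq : g.t = Spec.map (CommRingCat.ofHom ((IsFractionRing.lift (g := g.φ.comp H.ρ)
    (Function.Injective.comp (g := ⇑g.φ) (f := ⇑H.ρ) g.inj H.ρ_inj) : FractionRing R →+* g.Ω).comp (algebraMap R (FractionRing R)))) := by
  rw [GenPt.t, ← Spec.map_comp, ← CommRingCat.ofHom_comp]
  congr 2
  exact RingHom.ext fun x => (IsFractionRing.lift_algebraMap
    (Function.Injective.comp (g := ⇑g.φ) (f := ⇑H.ρ) g.inj H.ρ_inj) x).symm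

/-- The quotient on the fibre coming from one over the completed trait. -/
noncomputable abbrev GenPt.q {I : X.Modules} {F : H.X₂.Modules}
    (p : (Scheme.Modules.pullback H.v).obj I ⟶ F) :
    (Scheme.Modules.pullback g.a).obj I ⟶ (Scheme.Modules.pullback g.a₂).obj F :=
  (pullIso rfl I).inv ≫ (Scheme.Modules.pullback g.a₂).map p

variable {I : X.Modules} {F : H.X₂.Modules} (p : (Scheme.Modules.pullback H.v).obj I ⟶ F)
  [Xs.Over (Spec (CommRingCat.of (IsLocalRing.ResidueField R)))] [AlgebraicGeometry.IsReduced Xs]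
  (hsq : IsPullback i (Xs ↘ Spec (CommRingCat.of (IsLocalRing.ResidueField R))) f
      (Spec.map (CommRingCat.ofHom (IsLocalRing.residue R))))

omit [IsProper f] [Xs.Over (Spec (CommRingCat.of (IsLocalRing.ResidueField R)))] [AlgebraicGeometry.IsReduced Xs] in
theorem GenPt.epi_q [Epi p] : Epi (g.q p) :=
  haveI := (Scheme.Modules.pullbackPushforwardAdjunction g.a₂).leftAdjoint_preservesColimits
  epi_comp _ _

include hsq in
theorem GenPt.euler_q {G : Xs.Modules} (hG : Coh.IsCoh G) {E : X.Modules} {r : ℕ}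
    (hE : FlatMod.IsFinLocFreeOfRank r E) (hF : Coh.IsCoh F) (hFf : FlatMod.IsFlatOver H.f₂ F)
    (e : (Scheme.Modules.pullback H.i₂).obj F ≅ G) :
    (letI : g.Y.Over (Spec (CommRingCat.of g.Ω)) := ⟨g.qY⟩;
      Curv2.euler g.Ω g.Y (CohB1.tensorMod ((Scheme.Modules.pullback g.a₂).obj F)
        ((Scheme.Modules.pullback g.a).obj E))) =
      Curv2.euler (IsLocalRing.ResidueField R) Xs (CohB1.tensorMod G ((Scheme.Modules.pullback i).obj E)) := by
  letI : g.Y.Over (Spec (CommRingCat.of g.Ω)) := ⟨g.qY⟩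
  haveI : IsProper H.f₂ := MorphismProperty.of_isPullback H.hv ‹IsProper f›
  letI oS : Xs.Over (Spec (CommRingCat.of (IsLocalRing.ResidueField H.R₂))) := ⟨H.qs₂⟩
  have hEv := isFinLocFreeOfRank_pull H.v hE
  obtain ⟨u, hu⟩ := IsPrincipalIdealRing.principal (IsLocalRing.maximalIdeal R)
  rw [Ideal.submodule_span_eq] at hu
  let ψ : IsLocalRing.ResidueField R →+* IsLocalRing.ResidueField H.R₂ :=
    Ideal.Quotient.lift _ ((IsLocalRing.residue H.R₂).comp H.ρ) fun x hx => by
      rw [hu] at hx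
      obtain ⟨c, rfl⟩ := Ideal.mem_span_singleton'.1 hx
      rw [RingHom.comp_apply, IsLocalRing.residue_eq_zero_iff, map_mul, H.uniformizer u hu]
      exact Ideal.mul_mem_left _ _ (Ideal.mem_span_singleton_self _)
  obtain ⟨b, hb1, hb2⟩ := exists_fac hsq (a := i) (qY := H.qs₂) (ψ := ψ) (by
    have h := H.hsq₂.paste_horiz H.hv
    rw [H.hi, ← Spec.map_comp, ← CommRingCat.ofHom_comp] at h
    exact h)
  haveI := isClosedImmersion_special _ i hsq
  obtain rfl : b = 𝟙 Xs := by rw [← cancel_mono i, hb1, Category.id_comp]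
  have := isProper_special hsq
  rw [Crv77.euler_congr (k := g.Ω) (EGA73.tensIso (Iso.refl _) (pullIso (rfl : g.a₂ ≫ H.v = g.a) E).symm),
    euler_tensor_const H.hsq₂ hF hFf hEv g.ha₂,
    Crv77.euler_congr (k := IsLocalRing.ResidueField H.R₂) (EGA73.tensIso e (pullIso H.hi E))]
  refine Eq.trans ?_ (euler_square (X := Xs) (Xs ↘ Spec (CommRingCat.of (IsLocalRing.ResidueField R))) H.qs₂ hb2
      (Crv77.isCoh_tensorMod hG (VarMods75.isCoh (isFinLocFreeOfRank_pull i hE))))
  exact Crv77.euler_congr (k := IsLocalRing.ResidueField H.R₂) ((Scheme.Modules.pullbackId Xs).app _).symm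

omit [AlgebraicGeometry.IsReduced Xs] in
include hsq in
theorem Hat.mono_smul {M : H.X₂.Modules} (hM : FlatMod.IsFlatOver H.f₂ M) {u : R}
    (hu : IsLocalRing.maximalIdeal R = Ideal.span {u}) :
    letI : H.X₂.Over (Spec (CommRingCat.of H.R₂)) := ⟨H.f₂⟩
    Mono (Formal.smulMod H.R₂ M (H.ρ u)) := by
  letI : H.X₂.Over (Spec (CommRingCat.of H.R₂)) := ⟨H.f₂⟩
  exact mono_smulMod_of_flat hM fun h => IsDiscreteValuationRing.not_a_field H.R₂ (by simp [H.uniformizer u hu, h])

theorem Hat.isFlatOver_pull (hI : Coh.IsQCoh I) (hIf : FlatMod.IsFlatOver f I) :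
    FlatMod.IsFlatOver H.f₂ ((Scheme.Modules.pullback H.v).obj I) :=
  fun x => FlatMor66.isFlatOverAt_baseChange H.hv I hI x (hIf _)

include hsq in
/-- The quotient on the fibre is not mono. -/
theorem GenPt.not_mono_q (hI : Coh.IsCoh I) (hIf : FlatMod.IsFlatOver f I)
    (hM : TFOne.IsTF1 Xs ((Scheme.Modules.pullback i).obj I)) (hF : Coh.IsCoh F)
    (hFf : FlatMod.IsFlatOver H.f₂ F) [Epi p] {Z : Set Xs} {G : Xs.Modules}
    {π : (Scheme.Modules.pullback i).obj I ⟶ G} (hG : TFOne.IsQuotOn Xs ((Scheme.Modules.pullback i).obj I) Z G π)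
    (e : (Scheme.Modules.pullback H.i₂).obj F ≅ G)
    (he : (Scheme.Modules.pullback H.i₂).map p ≫ e.hom = (pullIso H.hi I).hom ≫ π)
    (hZ : ∃ η ∈ genericPoints Xs, η ∉ Z) : ¬ Mono (g.q p) := by
  intro hm
  obtain ⟨u, hu⟩ := IsPrincipalIdealRing.principal (IsLocalRing.maximalIdeal R)
  rw [Ideal.submodule_span_eq] at hu
  letI : H.X₂.Over (Spec (CommRingCat.of H.R₂)) := ⟨H.f₂⟩
  haveI : IsProper (H.X₂ ↘ Spec (CommRingCat.of H.R₂)) := MorphismProperty.of_isPullback H.hv ‹IsProper f›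
  haveI := Hat.mono_smul hsq (Hat.isFlatOver_pull (H := H) hI.1 hIf) hu
  haveI := Hat.mono_smul hsq hFf hu
  haveI : IsLocallyNoetherian H.X₂ := LocallyOfFiniteType.isLocallyNoetherian (H.X₂ ↘ Spec (CommRingCat.of H.R₂))
  haveI : Mono (Formal.smulMod H.R₂ (kernel p) (H.ρ u)) :=
    haveI : Mono (Formal.smulMod H.R₂ (kernel p) (H.ρ u) ≫ kernel.ι p) := by
      rw [← Formal27.smulMod_comp]; infer_instance
    mono_of_mono _ (kernel.ι p)
  let V := Scheme.Modules.pullback g.a₂
  haveI : Mono (V.map p) := by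
    have : V.map p = (pullIso rfl I).hom ≫ g.q p := by simp [GenPt.q, V]
    rw [this]
    infer_instance
  haveI : Mono (V.map (kernel.ι p)) := Desc59.QCohDesc.mono_pullback g.a₂ (kernel.ι p)
  have hK : Coh.IsCoh (kernel p) := QC70.isCoh_kernel p (isCoh_pull H.v hI) hF.1
  have h0 : IsZero (V.obj (kernel p)) := by
    refine IsZero.of_mono_eq_zero (V.map (kernel.ι p)) ?_
    rw [← cancel_mono (V.map p), ← V.map_comp, kernel.condition, V.map_zero, zero_comp]
  have hk := isZero_of_pull_generic (X := H.X₂) H.hsq₂ (H.uniformizer u hu) hK g.inj g.ha₂ h0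
  haveI : Mono p := Preadditive.mono_of_kernel_zero (hk.eq_of_src _ _)
  haveI : IsIso p := isIso_of_mono_of_epi p
  have hπ : IsIso π := by
    have : π = (pullIso H.hi I).inv ≫ (Scheme.Modules.pullback H.i₂).map p ≫ e.hom := by
      rw [he, Iso.inv_hom_id_assoc]
    rw [this]
    infer_instance
  obtain ⟨η, hη, hηZ⟩ := hZ
  obtain ⟨m, hm'⟩ := @exists_ne _ (nontrivial_stalk hM.2.2 hη) (0 : ((Scheme.Modules.pullback i).obj I).presheaf.stalk η)
  haveI := hπ
  exact hm' (QC70.injective_stalkMapM_of_mono π η ((quot_zeroAt hG hηZ m).trans (map0 π η).symm))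

include hsq in
/-- The quotient on the fibre is nonzero along the components through a point specialising into the quotient. -/
theorem GenPt.nontrivial_q (hI : Coh.IsCoh I) (hIf : FlatMod.IsFlatOver f I) (hF : Coh.IsCoh F)
    (hFf : FlatMod.IsFlatOver H.f₂ F) (z : Xs) {η : g.Y} (hη : g.a₂ η ⤳ H.i₂ z)
    (hinj : Function.Injective (stalkMapM ((Scheme.Modules.pullback H.i₂).map p) z))
    (hIη : Nontrivial (((Scheme.Modules.pullback g.a).obj I).presheaf.stalk η)) :
    Nontrivial (((Scheme.Modules.pullback g.a₂).obj F).presheaf.stalk η) := by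
  obtain ⟨u, hu⟩ := IsPrincipalIdealRing.principal (IsLocalRing.maximalIdeal R)
  rw [Ideal.submodule_span_eq] at hu
  letI : H.X₂.Over (Spec (CommRingCat.of H.R₂)) := ⟨H.f₂⟩
  haveI : IsProper (H.X₂ ↘ Spec (CommRingCat.of H.R₂)) := MorphismProperty.of_isPullback H.hv ‹IsProper f›
  haveI := Hat.mono_smul hsq (Hat.isFlatOver_pull (H := H) hI.1 hIf) hu
  haveI := Hat.mono_smul hsq hFf hu
  haveI : IsLocallyNoetherian H.X₂ := LocallyOfFiniteType.isLocallyNoetherian (H.X₂ ↘ Spec (CommRingCat.of H.R₂))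
  have hv := isCoh_pull H.v hI
  have hz := subsingleton_kernel_stalk H.hsq₂ (H.uniformizer u hu) hv hF p z hinj
  have hK : Coh.IsCoh (kernel p) := QC70.isCoh_kernel p hv hF.1
  haveI := hI.1
  haveI := hI.2
  haveI := hF.1
  haveI := hF.2
  haveI := hK.2
  have hw : g.a₂ η ∉ CohB1.support (kernel p) := fun h =>
    subsingleton_stalk_iff.1 hz (hη.mem_closed (QC70.isClosed_support (kernel p)) h)
  have hIw : Nontrivial (((Scheme.Modules.pullback H.v).obj I).presheaf.stalk (g.a₂ η)) :=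
    not_subsingleton_iff_nontrivial.1 fun h => not_subsingleton_iff_nontrivial.2 hIη <| subsingleton_stalk_iff.2 (by
      rw [QCPull72.support_pullback, Set.mem_preimage]
      have h' := subsingleton_stalk_iff.1 h
      rw [QCPull72.support_pullback, Set.mem_preimage] at h'
      exact h')
  obtain ⟨m, hm⟩ := exists_ne (0 : ((Scheme.Modules.pullback H.v).obj I).presheaf.stalk (g.a₂ η))
  refine not_subsingleton_iff_nontrivial.1 fun h => hm ?_
  have h' := subsingleton_stalk_iff.1 h
  rw [QCPull72.support_pullback, Set.mem_preimage] at h'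
  have hF0 := subsingleton_stalk_iff.2 h'
  obtain ⟨k, hk⟩ := QC70.stalkMapM_exact (ShortComplex.mk (kernel.ι p) p (kernel.condition p))
    (ShortComplex.exact_of_f_is_kernel _ (kernelIsKernel p)) (g.a₂ η) m (Subsingleton.elim _ _)
  haveI := subsingleton_stalk_iff.2 hw
  rw [← hk, Subsingleton.elim k 0]
  exact map0 _ _

include hsq in
theorem GenPt.not_isZero_pull (hF : Coh.IsCoh F) (hFf : FlatMod.IsFlatOver H.f₂ F) {G : Xs.Modules}
    (e : (Scheme.Modules.pullback H.i₂).obj F ≅ G) (hG : ¬ IsZero G) :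
    ¬ IsZero ((Scheme.Modules.pullback g.a₂).obj F) := fun h => by
  obtain ⟨u, hu⟩ := IsPrincipalIdealRing.principal (IsLocalRing.maximalIdeal R)
  rw [Ideal.submodule_span_eq] at hu
  letI : H.X₂.Over (Spec (CommRingCat.of H.R₂)) := ⟨H.f₂⟩
  haveI : IsProper (H.X₂ ↘ Spec (CommRingCat.of H.R₂)) := MorphismProperty.of_isPullback H.hv ‹IsProper f›
  haveI := Hat.mono_smul hsq hFf hu
  exact hG ((Functor.map_isZero _ (isZero_of_pull_generic (X := H.X₂) H.hsq₂ (H.uniformizer u hu) hF g.inj g.ha₂ h)).of_iso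
    e.symm)

include hsq in
/-- Two complementary limit quotients split the fibre, which is then not simple. -/
theorem GenPt.not_simple (hI : Coh.IsCoh I) (hIf : FlatMod.IsFlatOver f I) {F' : H.X₂.Modules}
    (p' : (Scheme.Modules.pullback H.v).obj I ⟶ F') (hF : Coh.IsCoh F) (hFf : FlatMod.IsFlatOver H.f₂ F)
    (hF' : Coh.IsCoh F') (hFf' : FlatMod.IsFlatOver H.f₂ F') {G G' : Xs.Modules}
    {π : (Scheme.Modules.pullback i).obj I ⟶ G} {π' : (Scheme.Modules.pullback i).obj I ⟶ G'}
    (hiso : IsIso (biprod.lift π π')) (hG : ¬ IsZero G) (hG' : ¬ IsZero G')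
    (e : (Scheme.Modules.pullback H.i₂).obj F ≅ G) (e' : (Scheme.Modules.pullback H.i₂).obj F' ≅ G')
    (he : (Scheme.Modules.pullback H.i₂).map p ≫ e.hom = (pullIso H.hi I).hom ≫ π)
    (he' : (Scheme.Modules.pullback H.i₂).map p' ≫ e'.hom = (pullIso H.hi I).hom ≫ π') :
    ¬ TFOne.IsSimple g.Y g.Ω g.qY ((Scheme.Modules.pullback g.a).obj I) := by
  intro hs
  letI : g.Y.Over (Spec (CommRingCat.of g.Ω)) := ⟨g.qY⟩
  obtain ⟨u, hu⟩ := IsPrincipalIdealRing.principal (IsLocalRing.maximalIdeal R)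
  rw [Ideal.submodule_span_eq] at hu
  letI : H.X₂.Over (Spec (CommRingCat.of H.R₂)) := ⟨H.f₂⟩
  haveI : IsProper (H.X₂ ↘ Spec (CommRingCat.of H.R₂)) := MorphismProperty.of_isPullback H.hv ‹IsProper f›
  haveI := Hat.mono_smul hsq (Hat.isFlatOver_pull (H := H) hI.1 hIf) hu
  haveI := Hat.mono_smul hsq hFf hu
  haveI := Hat.mono_smul hsq hFf' hu
  haveI : Mono (Formal.smulMod H.R₂ (F ⊞ F') (H.ρ u)) := Preadditive.mono_of_cancel_zero _ fun {W} w hw => by
    apply biprod.hom_ext
    · rw [zero_comp, ← cancel_mono (Formal.smulMod H.R₂ F (H.ρ u)), zero_comp, Category.assoc,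
        Formal27.smulMod_comp, ← Category.assoc, hw, zero_comp]
    · rw [zero_comp, ← cancel_mono (Formal.smulMod H.R₂ F' (H.ρ u)), zero_comp, Category.assoc,
        Formal27.smulMod_comp, ← Category.assoc, hw, zero_comp]
  haveI := preservesBinaryBiproducts_of_preservesBiproducts (Scheme.Modules.pullback H.i₂)
  haveI := preservesBinaryBiproducts_of_preservesBiproducts (Scheme.Modules.pullback g.a₂)
  let q := biprod.lift p p'
  haveI : IsIso ((Scheme.Modules.pullback H.i₂).map q) := by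
    have h : (Scheme.Modules.pullback H.i₂).map q = (pullIso H.hi I).hom ≫ biprod.lift π π' ≫
        (biprod.mapIso e e').inv ≫ ((Scheme.Modules.pullback H.i₂).mapBiprod F F').inv := by
      rw [← biprod.lift_mapBiprod, ← Category.assoc, ← Category.assoc]
      congr 1
      apply biprod.hom_ext
      · simp [← reassoc_of% he]
      · simp [← reassoc_of% he']
    haveI := hiso
    rw [h]
    infer_instance
  haveI : IsIso q := isIso_of_special H.hsq₂ (H.uniformizer u hu) (isCoh_pull H.v hI) (KSchm95.isCoh_biprod hF hF') q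
  let A := (Scheme.Modules.pullback g.a₂).obj F
  let B := (Scheme.Modules.pullback g.a₂).obj F'
  let θ : (Scheme.Modules.pullback g.a).obj I ≅ A ⊞ B := (pullIso rfl I).symm ≪≫
    (Scheme.Modules.pullback g.a₂).mapIso (asIso q) ≪≫ (Scheme.Modules.pullback g.a₂).mapBiprod F F'
  obtain ⟨c, hc⟩ := (isSimple_congr g.qY θ hs).2 (biprod.fst ≫ biprod.inl)
  have hA : 𝟙 A = Formal.smulMod g.Ω A c := by
    have := congrArg (fun φ => biprod.inl ≫ φ ≫ biprod.fst) hc
    simpa [Formal27.smulMod_comp_assoc] using this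
  have hB : Formal.smulMod g.Ω B c = 0 := by
    have := congrArg (fun φ => biprod.inr ≫ φ ≫ biprod.snd) hc
    simpa [Formal27.smulMod_comp_assoc] using this.symm
  rcases eq_or_ne c 0 with rfl | hne
  · rw [Formal27.smulMod_zero] at hA
    exact g.not_isZero_pull hsq hF hFf e hG ((IsZero.iff_id_eq_zero _).2 hA)
  · refine g.not_isZero_pull hsq hF' hFf' e' hG' ((IsZero.iff_id_eq_zero _).2 ?_)
    rw [← Formal27.smulMod_one (A := g.Ω), ← inv_mul_cancel₀ hne, Formal27.smulMod_mul, hB, zero_comp]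

end Groth.Agent.TF64
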