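import Groth.Agent.TF64.Lang.FieldCond

/-!
Decompositions as endomorphisms which are one on a set of components and zero on the others.
-/

set_option autoImplicit false
set_option backward.isDefEq.respectTransparency.types false
universe u

open CategoryTheory CategoryTheory.Limits AlgebraicGeometry TopologicalSpace
open Groth.Agent.QC70 (stalkMapM germM)

namespace Groth.Agent.TF64

variable {X : Scheme.{u}}

/-- An endomorphism which is one on `Z` and zero off `Z` at the generic points. -/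
def Endo01 {M : X.Modules} (Z : Set X) (e : M ⟶ M) : Prop :=
  ∀ η ∈ genericPoints X, (η ∈ Z → ZeroAt (e - 𝟙 M) η) ∧ (η ∉ Z → ZeroAt e η)

theorem zeroAt_comp_right {A B C : X.Modules} {φ : A ⟶ B} (ψ : B ⟶ C) {η : X} (h : ZeroAt φ η) :
    ZeroAt (φ ≫ ψ) η := fun e => by rw [stalkMapM_comp, h, map0]

theorem zeroAt_comp_left {A B C : X.Modules} (φ : A ⟶ B) {ψ : B ⟶ C} {η : X} (h : ZeroAt ψ η) :
    ZeroAt (φ ≫ ψ) η := fun e => by rw [stalkMapM_comp, h]

theorem zeroAt_add {A B : X.Modules} {φ ψ : A ⟶ B} {η : X} (h : ZeroAt φ η) (h' : ZeroAt ψ η) :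
    ZeroAt (φ + ψ) η := fun e => by rw [stalkMapM_add, h, h', add_zero]

theorem zeroAt_neg {A B : X.Modules} {φ : A ⟶ B} {η : X} (h : ZeroAt φ η) : ZeroAt (-φ) η := fun e => by
  rw [← zero_sub, stalkMapM_sub, stalkMapM_zero, h, sub_zero]

theorem Endo01.compl {M : X.Modules} {Z Z' : Set X} {e : M ⟶ M} (he : Endo01 Z e)
    (hc : ∀ η ∈ genericPoints X, (η ∈ Z' ↔ η ∉ Z)) : Endo01 Z' (𝟙 M - e) := fun η hη =>
  ⟨fun h => by
    rw [sub_sub_cancel_left]
    exact zeroAt_neg ((he η hη).2 ((hc η hη).1 h)),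
  fun h => by
    rw [← neg_sub]
    exact zeroAt_neg ((he η hη).1 (not_not.1 fun h' => h ((hc η hη).2 h')))⟩

variable [AlgebraicGeometry.IsNoetherian X] [AlgebraicGeometry.IsReduced X]

/-- An endomorphism which is one on `Z` and zero off `Z` splits the module along `Z`. -/
theorem Endo01.isIso_lift {M : X.Modules} (hM : TFOne.IsTF1 X M) {Z Z' : Set X} {e : M ⟶ M} (he : Endo01 Z e)
    (hc : ∀ η ∈ genericPoints X, (η ∈ Z' ↔ η ∉ Z)) {G G' : X.Modules} {π : M ⟶ G} {π' : M ⟶ G'}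
    (hG : TFOne.IsQuotOn X M Z G π) (hG' : TFOne.IsQuotOn X M Z' G' π') : IsIso (biprod.lift π π') := by
  haveI := hG.1
  haveI := hG'.1
  have he' := he.compl hc
  obtain ⟨ι, hι⟩ := exists_desc hG hM.2.2 hM.1.1 hM.2.1 e fun η hη h => (he η hη).2 h
  obtain ⟨ι', hι'⟩ := exists_desc hG' hM.2.2 hM.1.1 hM.2.1 (𝟙 M - e) fun η hη h => (he' η hη).2 h
  have h1 : e ≫ π = π := by
    rw [← sub_eq_zero]
    refine eq_zero_of_zeroAt hG.2.1.1 hG.2.2.1 _ fun η hη => ?_
    rw [show e ≫ π - π = (e - 𝟙 M) ≫ π by rw [Preadditive.sub_comp, Category.id_comp]]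
    by_cases h : η ∈ Z
    · exact zeroAt_comp_right π ((he η hη).1 h)
    · exact zeroAt_comp_left _ (quot_zeroAt hG h)
  have h2 : e ≫ π' = 0 := eq_zero_of_zeroAt hG'.2.1.1 hG'.2.2.1 _ fun η hη => by
    by_cases h : η ∈ Z'
    · exact zeroAt_comp_right π' ((he η hη).2 ((hc η hη).1 h))
    · exact zeroAt_comp_left _ (quot_zeroAt hG' h)
  refine ⟨biprod.desc ι ι', by rw [biprod.lift_desc, hι, hι', add_sub_cancel], ?_⟩
  apply biprod.hom_ext' <;> apply biprod.hom_ext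
  · simp only [Category.assoc, biprod.inl_desc_assoc, biprod.lift_fst, Category.comp_id, biprod.inl_fst]
    rw [← cancel_epi π, ← Category.assoc, hι, h1, Category.comp_id]
  · simp only [Category.assoc, biprod.inl_desc_assoc, biprod.lift_snd, Category.comp_id, biprod.inl_snd]
    rw [← cancel_epi π, ← Category.assoc, hι, h2, comp_zero]
  · simp only [Category.assoc, biprod.inr_desc_assoc, biprod.lift_fst, Category.comp_id, biprod.inr_fst]
    rw [← cancel_epi π', ← Category.assoc, hι', Preadditive.sub_comp, Category.id_comp, h1, sub_self, comp_zero]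
  · simp only [Category.assoc, biprod.inr_desc_assoc, biprod.lift_snd, Category.comp_id, biprod.inr_snd]
    rw [← cancel_epi π', ← Category.assoc, hι', Preadditive.sub_comp, Category.id_comp, h2, sub_zero,
      Category.comp_id]

theorem Endo01.dec {M : X.Modules} (hM : TFOne.IsTF1 X M) {Z : Set X} (hZ : GenClosed Z) {e : M ⟶ M}
    (he : Endo01 Z e) : Dec M Z := by
  obtain ⟨Z', hZ', hc⟩ : ∃ Z' : Set X, GenClosed Z' ∧ ∀ η ∈ genericPoints X, (η ∈ Z' ↔ η ∉ Z) := by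
    refine ⟨⋃₀ {C | C ∈ irreducibleComponents (X : Type u) ∧ ¬ C ⊆ Z}, genClosed_sUnion (fun C hC => hC.1) rfl ?_,
      fun η hη => by rw [generic_mem_sUnion_iff _ hη, closure_subset_iff hZ.1]⟩
    rw [Set.sUnion_eq_biUnion]
    exact ((TopologicalSpace.NoetherianSpace.finite_irreducibleComponents (α := X)).subset
      fun C hC => hC.1).isClosed_biUnion fun C hC => isClosed_of_mem_irreducibleComponents C hC.1
  obtain ⟨G, π, hG⟩ := exists_quot hM.1 hM.2.1 hM.2.2 hZ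
  obtain ⟨G', π', hG'⟩ := exists_quot hM.1 hM.2.1 hM.2.2 hZ'
  exact ⟨hZ, Z', G, G', π, π', hZ', hc, hG, hG', he.isIso_lift hM hc hG hG'⟩

theorem Dec.exists_endo {M : X.Modules} {Z : Set X} (h : Dec M Z) : ∃ e : M ⟶ M, Endo01 Z e := by
  obtain ⟨-, Z', G, G', π, π', -, hc, hG, hG', hiso⟩ := h
  haveI := hiso
  have h1 : π ≫ biprod.inl ≫ inv (biprod.lift π π') + π' ≫ biprod.inr ≫ inv (biprod.lift π π') = 𝟙 M := by
    rw [← Category.assoc, ← Category.assoc, ← Preadditive.add_comp, ← biprod.lift_eq, IsIso.hom_inv_id]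
  refine ⟨π ≫ biprod.inl ≫ inv (biprod.lift π π'), fun η hη => ⟨fun h => ?_, fun h => ?_⟩⟩
  · rw [sub_eq_neg_add]
    conv => arg 1; arg 1; arg 1; rw [← h1]
    rw [neg_add, add_right_comm, neg_add_cancel, zero_add]
    exact zeroAt_neg (zeroAt_comp_right _ (quot_zeroAt hG' fun h' => (hc η hη).1 h' h))
  · exact zeroAt_comp_right _ (quot_zeroAt hG h)

theorem Dec.isIso_lift {M : X.Modules} (hM : TFOne.IsTF1 X M) {Z Z' : Set X} (h : Dec M Z)
    (hc : ∀ η ∈ genericPoints X, (η ∈ Z' ↔ η ∉ Z)) {G G' : X.Modules} {π : M ⟶ G} {π' : M ⟶ G'}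
    (hG : TFOne.IsQuotOn X M Z G π) (hG' : TFOne.IsQuotOn X M Z' G' π') : IsIso (biprod.lift π π') :=
  let ⟨_, he⟩ := h.exists_endo
  he.isIso_lift hM hc hG hG'

theorem Dec.compl {M : X.Modules} (hM : TFOne.IsTF1 X M) {Z Z' : Set X} (h : Dec M Z) (hZ' : GenClosed Z')
    (hc : ∀ η ∈ genericPoints X, (η ∈ Z' ↔ η ∉ Z)) : Dec M Z' :=
  let ⟨_, he⟩ := h.exists_endo
  (he.compl hc).dec hM hZ'

/-- A decomposition of the extension of `ker πY` by `G_Y` gives one of a split `M`. -/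
theorem Dec.of_ext {M N GY : X.Modules} (hM : TFOne.IsTF1 X M) {Y : Set X} {πY : M ⟶ GY}
    (hGY : TFOne.IsQuotOn X M Y GY πY) (hd : Dec M Y) {α : GY ⟶ N} {β : N ⟶ kernel πY} {w : α ≫ β = 0}
    (hS : (ShortComplex.mk α β w).ShortExact) {Z : Set X} (h : Dec N Z) : Dec M Z := by
  obtain ⟨eN, heN⟩ := h.exists_endo
  obtain ⟨eY, heY⟩ := hd.exists_endo
  haveI := hGY.1
  haveI : Mono α := hS.mono_f
  haveI : Epi β := hS.epi_g
  -- `eN` preserves `G_Y`
  have hK : Coh.IsCoh (kernel πY) := QC70.isCoh_kernel πY hM.1 hGY.2.1.1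
  have hKt : TorSh.IsTorsionFree (kernel πY) := isTorsionFree_of_mono (kernel.ι πY) hM.2.1
  have h0 : α ≫ eN ≫ β = 0 := eq_zero_of_zeroAt hK.1 hKt _ fun η hη => by
    by_cases hηY : η ∈ Y
    · refine zeroAt_comp_left _ (zeroAt_comp_left _ fun e => ?_)
      refine QC70.injective_stalkMapM_of_mono (kernel.ι πY) η ((quot_bijective hGY hM.2.2 hη hηY).1 ?_)
      rw [← stalkMapM_comp, kernel.condition, stalkMapM_zero, map0, map0]
    · exact fun e => by
        have := quot_subsingleton hGY hηY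
        rw [Subsingleton.elim e 0, map0]
  haveI hmono : Mono (ShortComplex.mk α β w).f := ‹Mono α›
  let e1 : GY ⟶ GY := hS.exact.lift (α ≫ eN) (by simpa using h0)
  have he1 : e1 ≫ α = α ≫ eN := hS.exact.lift_f _ _
  haveI hepi : Epi (ShortComplex.mk α β w).g := ‹Epi β›
  let e2 : kernel πY ⟶ kernel πY := hS.exact.desc (eN ≫ β) (by simpa using h0)
  have he2 : β ≫ e2 = eN ≫ β := hS.exact.g_desc _ _
  have k1 : ∀ (c : N ⟶ N) (c1 : GY ⟶ GY) (η : X), c1 ≫ α = α ≫ c → ZeroAt c η → ZeroAt c1 η :=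
    fun c c1 η hcc hz x => QC70.injective_stalkMapM_of_mono α η (by
      rw [map0, ← stalkMapM_comp, hcc, stalkMapM_comp, hz])
  have k2 : ∀ (c : N ⟶ N) (c2 : kernel πY ⟶ kernel πY) (η : X), β ≫ c2 = c ≫ β → ZeroAt c η → ZeroAt c2 η :=
    fun c c2 η hcc hz x => by
      obtain ⟨n, rfl⟩ := QC70.surjective_stalkMapM_of_epi β η x
      rw [← stalkMapM_comp, hcc, stalkMapM_comp, hz, map0]
  -- the splitting of `M`
  obtain ⟨s, hs⟩ := exists_desc hGY hM.2.2 hM.1.1 hM.2.1 eY fun η hη h => (heY η hη).2 h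
  have hπ : eY ≫ πY = πY := by
    rw [← sub_eq_zero]
    refine eq_zero_of_zeroAt hGY.2.1.1 hGY.2.2.1 _ fun η hη => ?_
    rw [show eY ≫ πY - πY = (eY - 𝟙 M) ≫ πY by rw [Preadditive.sub_comp, Category.id_comp]]
    by_cases h : η ∈ Y
    · exact zeroAt_comp_right πY ((heY η hη).1 h)
    · exact zeroAt_comp_left _ (quot_zeroAt hGY h)
  let m : M ⟶ kernel πY := kernel.lift πY (𝟙 M - πY ≫ s) (by
    rw [hs, Preadditive.sub_comp, Category.id_comp, hπ, sub_self])
  have hm : m ≫ kernel.ι πY = 𝟙 M - πY ≫ s := kernel.lift_ι _ _ _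
  refine Endo01.dec (e := πY ≫ e1 ≫ s + m ≫ e2 ≫ kernel.ι πY) hM h.1 fun η hη => ⟨fun hZ => ?_, fun hZ => ?_⟩
  · have hz := (heN η hη).1 hZ
    have heq : πY ≫ e1 ≫ s + m ≫ e2 ≫ kernel.ι πY - 𝟙 M =
        πY ≫ (e1 - 𝟙 GY) ≫ s + m ≫ (e2 - 𝟙 (kernel πY)) ≫ kernel.ι πY := by
      simp only [Preadditive.sub_comp, Preadditive.comp_sub, Category.id_comp, hm]
      abel
    rw [heq]
    refine zeroAt_add (zeroAt_comp_left _ (zeroAt_comp_right _ (k1 _ _ η ?_ hz)))
      (zeroAt_comp_left _ (zeroAt_comp_right _ (k2 _ _ η ?_ hz)))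
    · rw [Preadditive.sub_comp, Preadditive.comp_sub, he1, Category.id_comp, Category.comp_id]
    · rw [Preadditive.sub_comp, Preadditive.comp_sub, he2, Category.id_comp, Category.comp_id]
  · have hz := (heN η hη).2 hZ
    exact zeroAt_add (zeroAt_comp_left _ (zeroAt_comp_right _ (k1 _ _ η he1 hz)))
      (zeroAt_comp_left _ (zeroAt_comp_right _ (k2 _ _ η he2 hz)))

end Groth.Agent.TF64
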