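import Groth.Agent.RB70.FlatBC
import Groth.Agent.Mum71.Model
import Groth.Agent.FBase64.AssTensor.Over
import Groth.Agent.Crv77.Euler
import Groth.Prelude.Def_PerfAux
import Mathlib.LinearAlgebra.Dimension.Constructions

/-!
The Euler characteristic in cartesian squares over fields.
-/

set_option autoImplicit false
set_option backward.isDefEq.respectTransparency.types false
universe u

open CategoryTheory CategoryTheory.Limits AlgebraicGeometry TensorProduct

namespace Groth.Agent.TF64

/-- Euler characteristics do not change under extension of the ground field, for any cartesian square. -/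
theorem euler_square {k K : Type u} [Field k] [Field K] {X : Scheme.{u}} (q : X ⟶ Spec (CommRingCat.of k))
    [IsProper q] {Y : Scheme.{u}} (qY : Y ⟶ Spec (CommRingCat.of K)) {b : Y ⟶ X} {ψ : k →+* K}
    (hb : IsPullback b qY q (Spec.map (CommRingCat.ofHom ψ))) {F : X.Modules} (hF : Coh.IsCoh F) :
    (letI : Y.Over (Spec (CommRingCat.of K)) := ⟨qY⟩;
      Curv2.euler K Y ((Scheme.Modules.pullback b).obj F)) =
      (letI : X.Over (Spec (CommRingCat.of k)) := ⟨q⟩;
      Curv2.euler k X F) := by
  letI : Algebra k K := ψ.toAlgebra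
  letI : X.Over (Spec (CommRingCat.of k)) := ⟨q⟩
  letI : Y.Over (Spec (CommRingCat.of K)) := ⟨qY⟩
  haveI : IsProper (X ↘ Spec (CommRingCat.of k)) := ‹IsProper q›
  haveI := hF.1
  obtain ⟨ι, hι, U, L, φ, N, hU, hU', -, -, hφ⟩ :=
    Mum71.exists_model k F hF (FBase64.AssTensor.isFlatOver_field (X ↘ Spec (CommRingCat.of k)) F)
  refine finsum_congr fun i => ?_
  obtain ⟨e⟩ := RB70.nonempty_hh_flat_bc (A := k) (B := K) (X := X) (X' := Y) (g := b) hb hU hU' hφ i
  rw [← e.finrank_eq, Module.finrank_baseChange]

/-- The Euler characteristic of a base change to a field is that of the fibre. -/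
theorem euler_eq_eulerChar {X S : Scheme.{u}} (f : X ⟶ S) [IsProper f] [IsLocallyNoetherian X]
    {K : Type u} [Field K] (t : Spec (CommRingCat.of K) ⟶ S) {Y : Scheme.{u}}
    (qY : Y ⟶ Spec (CommRingCat.of K)) {a : Y ⟶ X} (ha : IsPullback a qY f t) {F : X.Modules}
    (hF : Coh.IsCoh F) :
    (letI : Y.Over (Spec (CommRingCat.of K)) := ⟨qY⟩;
      Curv2.euler K Y ((Scheme.Modules.pullback a).obj F)) =
      PerfAux.eulerChar f F (t.base (IsLocalRing.closedPoint K)) := by
  set s := t.base (IsLocalRing.closedPoint K)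
  let ψ : CommRingCat.of (S.residueField s) ⟶ CommRingCat.of K :=
    S.descResidueField (Scheme.stalkClosedPointTo t)
  have ht : Spec.map ψ ≫ S.fromSpecResidueField s = t :=
    Scheme.descResidueField_stalkClosedPointTo_fromSpecResidueField K S t
  have hfib : IsPullback (f.fiberι s) (f.fiberToSpecResidueField s) f (S.fromSpecResidueField s) :=
    IsPullback.of_hasPullback _ _
  let b : Y ⟶ f.fiber s := hfib.lift a (qY ≫ Spec.map ψ) (by rw [Category.assoc, ht]; exact ha.w)
  have hb1 : b ≫ f.fiberι s = a := hfib.lift_fst _ _ _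
  have hb2 : b ≫ f.fiberToSpecResidueField s = qY ≫ Spec.map ψ := hfib.lift_snd _ _ _
  have hb : IsPullback b qY (f.fiberToSpecResidueField s) (Spec.map ψ) :=
    IsPullback.of_right (by rw [hb1, ht]; exact ha) hb2 hfib
  haveI : IsProper (f.fiberToSpecResidueField s) :=
    MorphismProperty.of_isPullback hfib inferInstance
  have hF0 : Coh.IsCoh ((Scheme.Modules.pullback (f.fiberι s)).obj F) :=
    haveI := hF.1
    haveI := hF.2
    ⟨QCPull72.isQuasicoherent_pullback _ F, QCPull72.isFiniteType_pullback _ F⟩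
  letI : Y.Over (Spec (CommRingCat.of K)) := ⟨qY⟩
  let e : (Scheme.Modules.pullback a).obj F ≅
      (Scheme.Modules.pullback b).obj ((Scheme.Modules.pullback (f.fiberι s)).obj F) :=
    (Scheme.Modules.pullbackCongr hb1.symm).app F ≪≫ ((Scheme.Modules.pullbackComp _ _).app F).symm
  rw [Crv77.euler_congr (k := K) e, euler_square (ψ := ψ.hom) _ qY hb hF0]
  rfl

end Groth.Agent.TF64
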