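import Groth.Agent.TF64.Deg
import Groth.Agent.TF64.DecompIff
import Groth.Agent.VarMods75.Additive

/-!
`r·χ(F_Z) + deg(E|_Z)` is the Euler characteristic of `F_Z ⊗ E`.
-/

set_option autoImplicit false
universe u

open CategoryTheory CategoryTheory.Limits AlgebraicGeometry TopologicalSpace
open Groth.Agent.QC70 (stalkMapM germM)

namespace Groth.Agent.TF64

variable {k : Type u} [Field k] {X : Scheme.{u}} [X.Over (Spec (CommRingCat.of k))]
  [IsProper (X ↘ Spec (CommRingCat.of k))]

theorem euler_tensor_add {S : ShortComplex X.Modules} (hS : S.ShortExact) (h₁ : Coh.IsCoh S.X₁)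
    (h₂ : Coh.IsCoh S.X₂) (h₃ : Coh.IsCoh S.X₃) {E : X.Modules} {r : ℕ} (hE : FlatMod.IsFinLocFreeOfRank r E) :
    Curv2.euler k X (CohB1.tensorMod S.X₂ E) =
      Curv2.euler k X (CohB1.tensorMod S.X₁ E) + Curv2.euler k X (CohB1.tensorMod S.X₃ E) := by
  obtain ⟨T, hT, e₁, e₂, e₃⟩ := VarMods75.shortExact_tensor (VarMods75.isFinLocFree hE) hS
  have h := Snapper75.euler_add k hT (e₁ ▸ Crv77.isCoh_tensorMod h₁ (VarMods75.isCoh hE))
    (e₂ ▸ Crv77.isCoh_tensorMod h₂ (VarMods75.isCoh hE)) (e₃ ▸ Crv77.isCoh_tensorMod h₃ (VarMods75.isCoh hE))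
  rwa [e₁, e₂, e₃] at h

variable [AlgebraicGeometry.IsReduced X]

-- The top points are generic, on a scheme of dimension at most one.
omit [X.Over (Spec (CommRingCat.of k))] [IsProper (X ↘ Spec (CommRingCat.of k))] [AlgebraicGeometry.IsReduced X] in
theorem mem_genericPoints_of_dim_one [AlgebraicGeometry.IsNoetherian X] (hdim : topologicalKrullDim X ≤ 1) {η : X}
    (h : topologicalKrullDim (closure ({η} : Set X)) = (1 : WithBot ℕ∞)) : η ∈ genericPoints X := by
  obtain ⟨w, hw, hs⟩ := exists_generic η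
  have h' : w = η := Snapper75.eq_of_dim_eq (d := 1) (by exact_mod_cast h)
    ((topologicalKrullDim_subspace_le X _).trans (by exact_mod_cast hdim)) hs
  exact h' ▸ hw

theorem euler_tensor_of_zero_generic (hdim : topologicalKrullDim X ≤ 1) {T E : X.Modules} {r : ℕ}
    (hE : FlatMod.IsFinLocFreeOfRank r E) (hT : Coh.IsCoh T)
    (h : ∀ η ∈ genericPoints X, Subsingleton (T.presheaf.stalk η)) :
    Curv2.euler k X (CohB1.tensorMod T E) = (r : ℤ) * Curv2.euler k X T := by
  have := Crv77.isNoetherian_of_proper k X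
  obtain ⟨P, c, hP, hform⟩ := VarMods75.exists_euler_tensor_formula k hdim hE
  have h0 := hform T hT
  rw [Finset.sum_eq_zero fun η hη => by
    rw [Snapper75.len_eq_zero (subsingleton_stalk_iff.1 (h η (mem_genericPoints_of_dim_one hdim ((hP η).1 hη)))),
      zero_mul]] at h0
  refine Int.cast_injective (α := ℚ) ?_
  push_cast
  linarith

theorem euler_tensor_nonneg (hdim : topologicalKrullDim X ≤ 1) {T E : X.Modules} {r : ℕ}
    (hE : FlatMod.IsFinLocFreeOfRank r E) (hT : Coh.IsCoh T)
    (h : ∀ η ∈ genericPoints X, Subsingleton (T.presheaf.stalk η)) :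
    0 ≤ Curv2.euler k X (CohB1.tensorMod T E) := by
  rw [euler_tensor_of_zero_generic hdim hE hT h]
  exact mul_nonneg (Nat.cast_nonneg r) (euler_nonneg hdim hT h)

theorem euler_tensor_isZero (hdim : topologicalKrullDim X ≤ 1) {T E : X.Modules} {r : ℕ}
    (hE : FlatMod.IsFinLocFreeOfRank r E) (hT : Coh.IsCoh T) (h : IsZero T) :
    Curv2.euler k X (CohB1.tensorMod T E) = 0 := by
  rw [euler_tensor_of_zero_generic hdim hE hT fun η _ => ?_, euler_eq_zero_of_isZero hdim h, mul_zero]
  exact subsingleton_of_forall_eq 0 fun e => (stalkMapM_id T η e).symm.trans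
    ((congrArg (fun φ : T ⟶ T => stalkMapM φ η e) (h.eq_of_src (𝟙 T) 0)).trans (stalkMapM_zero η e))

theorem rBeta_eq_euler_tensor (hdim : topologicalKrullDim X ≤ 1) {M G E : X.Modules} {r : ℕ}
    (hE : FlatMod.IsFinLocFreeOfRank r E) (hM : TFOne.IsRkOne X M) {π : M ⟶ G} {Z : Set X} (hZ : IsClosed Z)
    (hG : TFOne.IsQuotOn X M Z G π) :
    TFOne.rBeta X k (X ↘ Spec (CommRingCat.of k)) Z hZ E r G = Curv2.euler k X (CohB1.tensorMod G E) := by
  classical
  have := Crv77.isNoetherian_of_proper k X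
  obtain ⟨P, c, hP, hform⟩ := VarMods75.exists_euler_tensor_formula k hdim hE
  letI : (VecSt.subsch X Z hZ).Over (Spec (CommRingCat.of k)) :=
    ⟨VecSt.subschι X Z hZ ≫ (X ↘ Spec (CommRingCat.of k))⟩
  haveI : AlgebraicGeometry.IsReduced (VecSt.subsch X Z hZ) :=
    SchBasics.isReduced_vanishingIdeal_subscheme _
  let i := VecSt.subschι X Z hZ
  have : IsLocallyNoetherian (VecSt.subsch X Z hZ) := LocallyOfFiniteType.isLocallyNoetherian i
  have hloc := VarMods75.isFinLocFree hE
  have hEc := VarMods75.isCoh hE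
  have hO := hform _ (QC70.isCoh_pushforward i _ (Crv77.isCoh_structureModule (X := VecSt.subsch X Z hZ)))
  rw [Crv77.euler_congr (k := k) (KRR40.projIsoVB i (Coh.structureModule _) hloc ≪≫
      (Scheme.Modules.pushforward i).mapIso (EGA73.tensUnitLeft _)),
    Curves2.Ample.euler_push k i rfl _ (Dev46.isCoh_pullback i hEc),
    Curves2.Ample.euler_push k i rfl _ Crv77.isCoh_structureModule] at hO
  have hlen : ∀ η ∈ P, Snapper75.len ((Scheme.Modules.pushforward i).obj (Coh.structureModule _)) η =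
      Snapper75.len G η := fun η hη => by
    have hg := mem_genericPoints_of_dim_one hdim ((hP η).1 hη)
    by_cases h : η ∈ Z
    · rw [(len_push_structure i hg).1 (by rw [range_subschι]; exact h)]
      obtain ⟨e⟩ := hM η hg
      letI := (isField_stalk hg).toField
      rw [Snapper75.len, ((LinearEquiv.ofBijective (QC70.stalkLinear π η) (quot_bijective hG hM hg h)).symm.trans
        e).length_eq, Module.length_eq_one]
      simp
    · rw [(len_push_structure i hg).2 (by rw [range_subschι]; exact h)]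
      exact (Snapper75.len_eq_zero (hG.2.2.2 ▸ h)).symm
  rw [Finset.sum_congr rfl fun η hη => by rw [hlen η hη], ← hform G hG.2.1] at hO
  refine Int.cast_injective (α := ℚ) ?_
  simp only [i] at hO
  simp only [TFOne.rBeta, Curv2.deg]
  push_cast
  exact (congrArg (fun z : ℚ => (r : ℚ) * (Curv2.euler k X G : ℚ) + z) hO).trans (by ring)

end Groth.Agent.TF64
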