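import Groth.Agent.TF64.Lang.Chain

/-!
Extensions with semistable, indecomposable or quasistable reduction.
-/

set_option autoImplicit false
set_option backward.isDefEq.respectTransparency.types false
universe u

open CategoryTheory CategoryTheory.Limits AlgebraicGeometry TopologicalSpace

namespace Groth.Agent.TF64

section Field

variable {k : Type u} [Field k] {X : Scheme.{u}} [X.Over (Spec (CommRingCat.of k))]

variable (k) in
/-- All `β` are nonnegative. -/
def BetNonneg (M E : X.Modules) : Prop := ∀ Z : Set X, GenClosed Z → 0 ≤ bet k M E Z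

/-- The proper sets of components along which a module decomposes. -/
def decSet (M : X.Modules) : Set (Set X) := {Z | Z ≠ Set.univ ∧ Z.Nonempty ∧ Dec M Z}

theorem indec_iff_decSet {M : X.Modules} : Indec M ↔ decSet M = ∅ :=
  ⟨fun h => Set.eq_empty_iff_forall_notMem.2 fun Z hZ => h Z hZ.1 hZ.2.1 hZ.2.2,
    fun h Z h1 h2 h3 => Set.eq_empty_iff_forall_notMem.1 h Z ⟨h1, h2, h3⟩⟩

theorem decSet_finite [AlgebraicGeometry.IsNoetherian X] (M : X.Modules) : (decSet M).Finite :=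
  finite_genClosed.subset fun _ hZ => hZ.2.2.1

theorem exists_minimal_nat {α : Type*} {p : α → Prop} (μ : α → ℕ) (h : ∃ a, p a) :
    ∃ a, p a ∧ ∀ b, p b → μ a ≤ μ b := by
  classical
  have h' : ∃ n, ∃ a, p a ∧ μ a = n := ⟨_, h.choose, h.choose_spec, rfl⟩
  obtain ⟨a, ha, e⟩ := Nat.find_spec h'
  exact ⟨a, ha, fun b hb => e ▸ Nat.find_le ⟨b, hb, rfl⟩⟩

end Field

variable {R : Type u} [CommRing R] [IsDomain R] [IsDiscreteValuationRing R] {X : Scheme.{u}}
  {f : X ⟶ Spec (CommRingCat.of R)} [Flat f] [IsProper f] {Xs : Scheme.{u}}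
  [Xs.Over (Spec (CommRingCat.of (IsLocalRing.ResidueField R)))] {i : Xs ⟶ X} [AlgebraicGeometry.IsReduced Xs]
  {Xg : Scheme.{u}} [Xg.Over (Spec (CommRingCat.of (FractionRing R)))] {j : Xg ⟶ X}
  (hsq : IsPullback i (Xs ↘ Spec (CommRingCat.of (IsLocalRing.ResidueField R))) f
      (Spec.map (CommRingCat.ofHom (IsLocalRing.residue R))))
  (hgen : IsPullback j (Xg ↘ Spec (CommRingCat.of (FractionRing R))) f
      (Spec.map (CommRingCat.ofHom (algebraMap R (FractionRing R)))))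
  (hpure : ∀ C ∈ irreducibleComponents (Xs : Type u), topologicalKrullDim C = 1)
  (hgi : ∀ (C : Set Xs) (hC : C ∈ irreducibleComponents (Xs : Type u)),
      GeometricallyIntegral (VecSt.subschι Xs C (isClosed_of_mem_irreducibleComponents C hC) ≫
        (Xs ↘ Spec (CommRingCat.of (IsLocalRing.ResidueField R)))))
  {I E : X.Modules} {r : ℕ} (hr : 0 < r) (hE : FlatMod.IsFinLocFreeOfRank r E)

/-- `χ(I'(s) ⊗ E(s)) = 0` for all extensions. -/
abbrev TotZero (f : X ⟶ Spec (CommRingCat.of R)) (i : Xs ⟶ X) (j : Xg ⟶ X) (I E : X.Modules) : Prop :=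
  ∀ I', Good f i j I I' → Curv2.euler (IsLocalRing.ResidueField R) Xs
    (CohB1.tensorMod ((Scheme.Modules.pullback i).obj I') ((Scheme.Modules.pullback i).obj E)) = 0

include hsq hgen hgi hpure hE in
omit [Flat f] in
theorem totZero (hI : TFOne.IsRelTF1 f I) {d : ℤ}
    (hχ : Curv2.euler (IsLocalRing.ResidueField R) Xs ((Scheme.Modules.pullback i).obj I) = d)
    (hEd : Curv2.deg (IsLocalRing.ResidueField R) Xs ((Scheme.Modules.pullback i).obj E) r = -(r : ℤ) * d) :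
    TotZero f i j I E := fun I' h => by
  have := isProper_special hsq
  have := Crv77.isNoetherian_of_proper (IsLocalRing.ResidueField R) Xs
  have hE' := isFinLocFreeOfRank_pull i hE
  obtain ⟨G, π, hG⟩ := exists_quot h.tf1.1 h.tf1.2.1 h.tf1.2.2 genClosed_univ
  have h0 := good_self (j := j) hsq hgi hI
  rw [← bet_univ (k := IsLocalRing.ResidueField R) hpure hE' h.tf1,
    ← rBeta_eq_bet hpure hE' h.tf1 isClosed_univ hG, rBeta_univ hpure hE' h.tf1 isClosed_univ rfl hG,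
    Good.euler_eq hsq hgen h0.coh h0.flat h, hχ, hEd]
  ring

include hsq hgen in
omit [Flat f] in
theorem Good.step {I' : X.Modules} (h : Good f i j I I') {Y : Set Xs} {G : Xs.Modules}
    {π : (Scheme.Modules.pullback i).obj I' ⟶ G}
    (hG : TFOne.IsQuotOn Xs ((Scheme.Modules.pullback i).obj I') Y G π) :
    Good f i j I (kernel (toPush i π)) ∧
      ∃ (α : G ⟶ (Scheme.Modules.pullback i).obj (kernel (toPush i π)))
        (β : (Scheme.Modules.pullback i).obj (kernel (toPush i π)) ⟶ kernel π) (w : α ≫ β = 0),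
        (ShortComplex.mk α β w).ShortExact :=
  ⟨h.modify hsq hgen hG, (setting f hsq h.coh h.flat h.tf1 hG rfl).2.2.2⟩

variable (R) in
/-- `β` of the reduction. -/
noncomputable abbrev betS (i : Xs ⟶ X) (E I' : X.Modules) (Z : Set Xs) : ℤ :=
  bet (IsLocalRing.ResidueField R) ((Scheme.Modules.pullback i).obj I') ((Scheme.Modules.pullback i).obj E) Z

local notation "κ" => IsLocalRing.ResidueField R

include hsq hgen hpure hgi hr hE in
/-- Some extension has semistable reduction. -/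
theorem exists_betNonneg (h0 : Good f i j I I) (htot : TotZero f i j I E)
    (hIg : TFOne.FibSemistable (Xg ↘ Spec (CommRingCat.of (FractionRing R)))
      ((Scheme.Modules.pullback j).obj I) ((Scheme.Modules.pullback j).obj E) r) :
    ∃ I', Good f i j I I' ∧
      BetNonneg κ ((Scheme.Modules.pullback i).obj I') ((Scheme.Modules.pullback i).obj E) := by
  by_contra hneg
  simp only [BetNonneg, not_exists, not_and, not_forall, not_le] at hneg
  have := isProper_special hsq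
  have := Crv77.isNoetherian_of_proper (IsLocalRing.ResidueField R) Xs
  have hE' := isFinLocFreeOfRank_pull i hE
  let IsMin : X.Modules → ℤ → Prop := fun I' m =>
    Good f i j I I' ∧ (∃ Z, GenClosed Z ∧ betS R i E I' Z = m) ∧ ∀ Z, GenClosed Z → m ≤ betS R i E I' Z
  have hmin : ∀ I', Good f i j I I' → ∃ m, IsMin I' m := fun I' h => by
    obtain ⟨Z, hZ, hZmin⟩ := Set.exists_min_image {Z : Set Xs | GenClosed Z} (fun Z => betS R i E I' Z)
      finite_genClosed ⟨∅, genClosed_empty⟩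
    exact ⟨_, h, ⟨Z, hZ, rfl⟩, hZmin⟩
  obtain ⟨m₀, hm₀⟩ := hmin I h0
  obtain ⟨m, ⟨I₁, hI₁⟩, hmax⟩ := Int.exists_greatest_of_bdd (P := fun m => ∃ I', IsMin I' m)
    ⟨0, fun m ⟨I', hg, _, hle⟩ => by
      obtain ⟨Z, hZ, hZn⟩ := hneg I' hg
      linarith [hle Z hZ]⟩ ⟨m₀, I, hm₀⟩
  let Opt : X.Modules → Set Xs → Prop := fun I' Y =>
    IsMin I' m ∧ GenClosed Y ∧ betS R i E I' Y = m ∧ ∀ Z, GenClosed Z → Y ⊆ Z → betS R i E I' Z = m → Z = Y
  have hopt : ∀ I', IsMin I' m → ∃ Y, Opt I' Y := fun I' h => by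
    obtain ⟨Z, hZ, hZm⟩ := h.2.1
    obtain ⟨Y, ⟨hY, hYm⟩, hYmax⟩ := Set.exists_max_image {T : Set Xs | GenClosed T ∧ betS R i E I' T = m}
      (fun T => (gens T).ncard) (finite_genClosed.subset fun _ h => h.1) ⟨Z, hZ, hZm⟩
    exact ⟨Y, h, hY, hYm, fun T hT hs hTm => (eq_of_ncard_le hY hT hs (hYmax T ⟨hT, hTm⟩)).symm⟩
  obtain ⟨Y₁, hY₁⟩ := hopt I₁ hI₁
  obtain ⟨⟨I₀, Y⟩, hO, hcard⟩ := exists_minimal_nat (α := X.Modules × Set Xs) (p := fun q => Opt q.1 q.2)
    (fun q => (gens q.2).ncard) ⟨(I₁, Y₁), hY₁⟩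
  have hstep : ∀ I', Opt I' Y → ∀ (G : Xs.Modules) (π : (Scheme.Modules.pullback i).obj I' ⟶ G),
      TFOne.IsQuotOn Xs ((Scheme.Modules.pullback i).obj I') Y G π →
      Opt (kernel (toPush i π)) Y ∧ Dec ((Scheme.Modules.pullback i).obj (kernel (toPush i π))) Y := by
    intro I' hI' G π hG
    obtain ⟨⟨hg, -, hle⟩, hY, hYm, hYmax⟩ := hI'
    obtain ⟨hg', α, β, w, hS⟩ := hg.step hsq hgen hG
    have hlow : ∀ Z, GenClosed Z →
        m ≤ betS R i E (kernel (toPush i π)) Z ∧ (betS R i E (kernel (toPush i π)) Z = m → Z ⊆ Y) := fun Z hZ => by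
      obtain ⟨W, hW, -, hc⟩ := bet_compare (k := κ) hpure hE' hg.tf1 hg'.tf1 hG hS hr hY hZ
      have h1 := hle W hW
      have h2 := hle _ (hY.union hZ)
      refine ⟨by linarith, fun heq => ?_⟩
      exact (Set.union_subset_iff.1 (hYmax _ (hY.union hZ) Set.subset_union_left (by linarith)).le).2
    obtain ⟨m', hm'⟩ := hmin _ hg'
    obtain ⟨Z, hZ, hZm⟩ := hm'.2.1
    have hmm : m' = m := le_antisymm (hmax m' ⟨_, hm'⟩) (hZm ▸ (hlow Z hZ).1)
    obtain ⟨Y', hY'⟩ := hopt _ (hmm ▸ hm')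
    have hsub : Y' ⊆ Y := (hlow Y' hY'.2.1).2 hY'.2.2.1
    obtain rfl : Y' = Y := eq_of_ncard_le hY'.2.1 hY hsub (hcard (_, Y') hY')
    exact ⟨hY', dec_of_bet_eq (k := κ) hpure hE' hg.tf1 hg'.tf1 hG hS hr hY (hY'.2.2.1.trans hYm.symm)⟩
  obtain ⟨G, π, hG⟩ := exists_quot hO.1.1.tf1.1 hO.1.1.tf1.2.1 hO.1.1.tf1.2.2 hO.2.1
  obtain ⟨hO', hd'⟩ := hstep I₀ hO G π hG
  have hP : IsChain f i j I (fun J => Opt J Y ∧ Dec ((Scheme.Modules.pullback i).obj J) Y) Y :=
    fun J hJ => ⟨hJ.1.1.1, hJ.2, hstep J hJ.1⟩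
  refine false_of_chain_neg hsq hgen hpure hgi hE hIg hP ⟨hO', hd'⟩ (htot _ hO'.1.1) ?_
  obtain ⟨Z, hZ, hZn⟩ := hneg _ hO'.1.1
  have := hO'.1.2.2 Z hZ
  have := hO'.2.2.1
  linarith

include hsq hgen hpure hgi in
/-- In a class stable under decomposed modifications, some extension has indecomposable reduction. -/
theorem exists_indec (Q : X.Modules → Prop) (hQ0 : ∃ I', Good f i j I I' ∧ Q I')
    (hQ : ∀ I' (Y : Set Xs), Good f i j I I' → Q I' → Dec ((Scheme.Modules.pullback i).obj I') Y →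
      ∀ (G : Xs.Modules) (π : (Scheme.Modules.pullback i).obj I' ⟶ G),
        TFOne.IsQuotOn Xs ((Scheme.Modules.pullback i).obj I') Y G π → Q (kernel (toPush i π)))
    (hIg : TFOne.FibSimple (Xg ↘ Spec (CommRingCat.of (FractionRing R))) ((Scheme.Modules.pullback j).obj I)) :
    ∃ I', Good f i j I I' ∧ Q I' ∧ Indec ((Scheme.Modules.pullback i).obj I') := by
  by_contra hneg
  have := isProper_special hsq
  have := Crv77.isNoetherian_of_proper (IsLocalRing.ResidueField R) Xs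
  obtain ⟨I₀, ⟨hg₀, hQ₀⟩, hcard⟩ := exists_minimal_nat (α := X.Modules) (p := fun I' => Good f i j I I' ∧ Q I')
    (fun I' => (decSet ((Scheme.Modules.pullback i).obj I')).ncard) hQ0
  obtain ⟨Y, hY⟩ := Set.nonempty_iff_ne_empty.2 fun h => hneg ⟨I₀, hg₀, hQ₀, indec_iff_decSet.2 h⟩
  obtain ⟨Y', hY', hc⟩ := exists_genClosed_compl Y
  let P : X.Modules → Prop := fun J => Good f i j I J ∧ Q J ∧
    decSet ((Scheme.Modules.pullback i).obj J) = decSet ((Scheme.Modules.pullback i).obj I₀)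
  have hchain : ∀ T ∈ decSet ((Scheme.Modules.pullback i).obj I₀), IsChain f i j I P T := by
    intro T hT J ⟨hg, hq, hJ⟩
    have hd : Dec ((Scheme.Modules.pullback i).obj J) T := (hJ.symm ▸ hT : T ∈ decSet _).2.2
    refine ⟨hg, hd, fun G π hG => ?_⟩
    obtain ⟨hg', α, β, w, hS⟩ := hg.step hsq hgen hG
    have hq' := hQ J T hg hq hd G π hG
    have hsub : decSet ((Scheme.Modules.pullback i).obj (kernel (toPush i π))) ⊆
        decSet ((Scheme.Modules.pullback i).obj I₀) := fun Z hZ =>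
      hJ ▸ ⟨hZ.1, hZ.2.1, Dec.of_ext hg.tf1 hG hd hS hZ.2.2⟩
    exact ⟨hg', hq', Set.eq_of_subset_of_ncard_le hsub (hcard _ ⟨hg', hq'⟩) (decSet_finite _)⟩
  have hY'd : Y' ∈ decSet ((Scheme.Modules.pullback i).obj I₀) := by
    obtain ⟨η, hη, hηY⟩ := exists_gen_not_mem hY.2.2.1 hY.1
    obtain ⟨ξ, hξ, hξY⟩ := exists_gen_mem_of_ne_empty hY.2.2.1 (Set.nonempty_iff_ne_empty.1 hY.2.1)
    exact ⟨fun h => (hc ξ hξ).1 (h ▸ Set.mem_univ ξ) hξY, ⟨η, (hc η hη).2 hηY⟩,
      hY.2.2.compl hg₀.tf1 hY' hc⟩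
  exact false_of_chains hsq hgen hpure hgi hIg (hchain Y hY) (hchain Y' hY'd)
    (I' := I₀) ⟨hg₀, hQ₀, rfl⟩ ⟨hg₀, hQ₀, rfl⟩ hc hY.2.1 hY'd.2.1

include hsq hgen hpure hr hE in
omit [Flat f] in
/-- Semistable reduction is kept by a decomposed modification. -/
theorem betNonneg_step (htot : TotZero f i j I E) (I' : X.Modules) (Y : Set Xs) (hg : Good f i j I I')
    (hnn : BetNonneg κ ((Scheme.Modules.pullback i).obj I') ((Scheme.Modules.pullback i).obj E))
    (hd : Dec ((Scheme.Modules.pullback i).obj I') Y) (G : Xs.Modules)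
    (π : (Scheme.Modules.pullback i).obj I' ⟶ G)
    (hG : TFOne.IsQuotOn Xs ((Scheme.Modules.pullback i).obj I') Y G π) :
    BetNonneg κ ((Scheme.Modules.pullback i).obj (kernel (toPush i π))) ((Scheme.Modules.pullback i).obj E) := by
  have := isProper_special hsq
  have := Crv77.isNoetherian_of_proper (IsLocalRing.ResidueField R) Xs
  have hE' := isFinLocFreeOfRank_pull i hE
  obtain ⟨hg', α, β, w, hS⟩ := hg.step hsq hgen hG
  obtain ⟨Y', hY', hc⟩ := exists_genClosed_compl Y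
  have h0 := bet_compl (k := κ) hpure hE' hg.tf1 hd hY' hc
  rw [htot I' hg] at h0
  intro Z hZ
  obtain ⟨W, hW, -, hle⟩ := bet_compare (k := κ) hpure hE' hg.tf1 hg'.tf1 hG hS hr hd.1 hZ
  linarith [hnn W hW, hnn _ (hd.1.union hZ), hnn Y hd.1, hnn Y' hY']

include hsq hgen hpure hgi hr hE in
/-- Some extension has reduction semistable and strictly so on the proper subsets through the marked component. -/
theorem exists_quasistable (h0 : Good f i j I I) (htot : TotZero f i j I E)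
    (σ : Spec (CommRingCat.of R) ⟶ X) (hσ : σ ≫ f = 𝟙 _)
    (σg : Spec (CommRingCat.of (FractionRing R)) ⟶ Xg)
    (hσg : σg ≫ (Xg ↘ Spec (CommRingCat.of (FractionRing R))) = 𝟙 _)
    (hσgj : σg ≫ j = Spec.map (CommRingCat.ofHom (algebraMap R (FractionRing R))) ≫ σ)
    (hIg : TFOne.FibQuasistableAlong (Xg ↘ Spec (CommRingCat.of (FractionRing R)))
      ((Scheme.Modules.pullback j).obj I) ((Scheme.Modules.pullback j).obj E) σg hσg r)
    (hIgs : TFOne.FibSemistable (Xg ↘ Spec (CommRingCat.of (FractionRing R)))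
      ((Scheme.Modules.pullback j).obj I) ((Scheme.Modules.pullback j).obj E) r)
    {z : Xs} (hz : i z = σ (IsLocalRing.closedPoint R)) {η₀ : Xs}
    (huniq : ∀ η ∈ genericPoints Xs, η ⤳ z → η = η₀) :
    ∃ I', Good f i j I I' ∧
      BetNonneg κ ((Scheme.Modules.pullback i).obj I') ((Scheme.Modules.pullback i).obj E) ∧
      ∀ Z : Set Xs, GenClosed Z → Z ≠ Set.univ → η₀ ∈ Z → betS R i E I' Z ≠ 0 := by
  by_contra hneg
  simp only [not_exists, not_and, not_forall, ne_eq, not_not] at hneg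
  have := isProper_special hsq
  have := Crv77.isNoetherian_of_proper (IsLocalRing.ResidueField R) Xs
  have hE' := isFinLocFreeOfRank_pull i hE
  let IsZ : X.Modules → Set Xs → Prop := fun I' T =>
    GenClosed T ∧ T ≠ Set.univ ∧ η₀ ∈ T ∧ betS R i E I' T = 0
  let Opt : X.Modules → Set Xs → Prop := fun I' Y => Good f i j I I' ∧
    BetNonneg κ ((Scheme.Modules.pullback i).obj I') ((Scheme.Modules.pullback i).obj E) ∧
    IsZ I' Y ∧ ∀ T, IsZ I' T → T ⊆ Y → T = Y
  have hopt : ∀ I', Good f i j I I' →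
      BetNonneg κ ((Scheme.Modules.pullback i).obj I') ((Scheme.Modules.pullback i).obj E) → ∃ Y, Opt I' Y := by
    intro I' hg hnn
    obtain ⟨T, hT, hTu, hηT, hT0⟩ := hneg I' hg hnn
    obtain ⟨Y, hY, hYmin⟩ := Set.exists_min_image {T : Set Xs | IsZ I' T} (fun T => (gens T).ncard)
      (finite_genClosed.subset fun _ h => h.1) ⟨T, hT, hTu, hηT, hT0⟩
    exact ⟨Y, hg, hnn, hY, fun T' hT' hs => eq_of_ncard_le hT'.1 hY.1 hs (hYmin T' hT')⟩
  obtain ⟨I₁, hI₁, hnn₁⟩ := exists_betNonneg hsq hgen hpure hgi hr hE h0 htot hIgs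
  obtain ⟨Y₁, hY₁⟩ := hopt I₁ hI₁ hnn₁
  obtain ⟨⟨I₀, Y⟩, hO, hcard⟩ := exists_minimal_nat (α := X.Modules × Set Xs) (p := fun q => Opt q.1 q.2)
    (fun q => (genericPoints Xs).ncard - (gens q.2).ncard) ⟨(I₁, Y₁), hY₁⟩
  have hN : ∀ T : Set Xs, (gens T).ncard ≤ (genericPoints Xs).ncard := fun T =>
    Set.ncard_le_ncard Set.inter_subset_left finite_genericPoints
  have hstep : ∀ I', Opt I' Y → ∀ (G : Xs.Modules) (π : (Scheme.Modules.pullback i).obj I' ⟶ G),
      TFOne.IsQuotOn Xs ((Scheme.Modules.pullback i).obj I') Y G π →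
      Opt (kernel (toPush i π)) Y ∧ Dec ((Scheme.Modules.pullback i).obj (kernel (toPush i π))) Y := by
    intro I' hI' G π hG
    obtain ⟨hg, hnn, ⟨hY, hYu, hηY, hY0⟩, hYmin⟩ := hI'
    obtain ⟨hg', α, β, w, hS⟩ := hg.step hsq hgen hG
    have hlow : ∀ Z, GenClosed Z → 0 ≤ betS R i E (kernel (toPush i π)) Z ∧
        (betS R i E (kernel (toPush i π)) Z = 0 → η₀ ∈ Z → Y ⊆ Z) := fun Z hZ => by
      obtain ⟨W, hW, hWi, hc⟩ := bet_compare (k := κ) hpure hE' hg.tf1 hg'.tf1 hG hS hr hY hZ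
      have h1 := hnn W hW
      have h2 := hnn _ (hY.union hZ)
      refine ⟨by linarith, fun heq hηZ => ?_⟩
      have hη : η₀ ∈ genericPoints Xs := by
        obtain ⟨η, hη, hs⟩ := exists_generic z
        exact huniq η hη hs ▸ hη
      have hWY : W ⊆ Y := hW.subset hY.1 fun η hη h => ((hWi η hη).1 h).1
      have hWu : W ≠ Set.univ := fun h => hYu (Set.eq_univ_of_univ_subset (h ▸ hWY))
      obtain rfl := hYmin W ⟨hW, hWu, (hWi η₀ hη).2 ⟨hηY, hηZ⟩, by linarith⟩ hWY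
      exact hW.subset hZ.1 fun η hη h => ((hWi η hη).1 h).2
    obtain ⟨Y', hY'⟩ := hopt _ hg' fun Z hZ => (hlow Z hZ).1
    obtain ⟨hY'g, -, hηY', hY'0⟩ := hY'.2.2.1
    have hsub : Y ⊆ Y' := (hlow Y' hY'g).2 hY'0 hηY'
    have hle := hcard (_, Y') hY'
    obtain rfl : Y = Y' := eq_of_ncard_le hY hY'g hsub (by
      simp only at hle; have := hN Y; have := hN Y'; omega)
    exact ⟨hY', dec_of_bet_eq (k := κ) hpure hE' hg.tf1 hg'.tf1 hG hS hr hY (hY'0.trans hY0.symm)⟩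
  obtain ⟨G, π, hG⟩ := exists_quot hO.1.tf1.1 hO.1.tf1.2.1 hO.1.tf1.2.2 hO.2.2.1.1
  obtain ⟨hO', hd'⟩ := hstep I₀ hO G π hG
  have hP : IsChain f i j I (fun J => Opt J Y ∧ Dec ((Scheme.Modules.pullback i).obj J) Y) Y :=
    fun J hJ => ⟨hJ.1.1, hJ.2, hstep J hJ.1⟩
  exact false_of_chain_zero hsq hgen hpure hgi hE σ hσ σg hσg hσgj hIg hz hP
    (fun η hη hs => huniq η hη hs ▸ hO'.2.2.1.2.2.1) (exists_gen_not_mem hO'.2.2.1.1 hO'.2.2.1.2.1)
    ⟨hO', hd'⟩ hO'.2.2.1.2.2.2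

end Groth.Agent.TF64
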