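import Groth.Agent.TF64.Lang.Congr
import Groth.Agent.S0435
import Groth.Agent.S0403
import Groth.Agent.S1026
import Groth.Agent.QCCohInd72.Basic
import Groth.Agent.FDesc60.TensorFlat
import Groth.Agent.FlatMor68.FlatDimFun
import Groth.Agent.DCX42.LpullLoc
import Groth.Agent.EGA73.Tensor

/-!
The geometric fibres of a trait family with reduced special fibre: geometry and Euler characteristics.
-/

set_option autoImplicit false
set_option backward.isDefEq.respectTransparency.types false
universe u

open CategoryTheory CategoryTheory.Limits AlgebraicGeometry TopologicalSpace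

namespace Groth.Agent.TF64

theorem isFlatOver_tensor {X S : Scheme.{u}} (f : X ⟶ S) {M E : X.Modules} (hM : Coh.IsQCoh M)
    (hf : FlatMod.IsFlatOver f M) {r : ℕ} (hE : FlatMod.IsFinLocFreeOfRank r E) :
    FlatMod.IsFlatOver f (CohB1.tensorMod M E) := fun x => by
  haveI : M.IsQuasicoherent := hM
  haveI : E.IsQuasicoherent := (VarMods75.isCoh hE).1
  have hid : FlatMod.IsFlatOverAt (𝟙 X) E x := by
    have h' := DCX42.isFlat_of_isFinLocFree (VarMods75.isFinLocFree hE) x
    unfold FlatMod.IsFlatOverAt
    unfold FlatMod.IsFlatAt at h'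
    have e : FlatMod.moduleStalkOver (𝟙 X) E x =
        (inferInstance : Module (X.presheaf.stalk x) (E.presheaf.stalk x)) := by
      refine Module.ext' _ _ fun r m => ?_
      change ((Scheme.Hom.stalkMap (𝟙 X) x).hom r : X.presheaf.stalk x) • m =
        @HSMul.hSMul (X.presheaf.stalk x) _ _ _ r m
      rw [Scheme.Hom.stalkMap_id]
      rfl
    rw [e]
    exact h'
  have h1 := (FDesc60.tensor_pullback_facts (𝟙 X) f E M x hid).1 (hf x)
  simp only [Category.id_comp] at h1
  exact (FlatMor68.FlatDimFun.isFlatOverAt_iff_of_iso f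
    (EGA73.tensIso (Iso.refl E) ((Scheme.Modules.pullbackId X).app M) ≪≫ EGA73.tensComm E M) x).1 h1

variable {R : Type u} [CommRing R] [IsDomain R] [IsDiscreteValuationRing R] {X : Scheme.{u}}
  {f : X ⟶ Spec (CommRingCat.of R)} [IsProper f] {Xs : Scheme.{u}}
  [Xs.Over (Spec (CommRingCat.of (IsLocalRing.ResidueField R)))] {i : Xs ⟶ X}
  (hsq : IsPullback i (Xs ↘ Spec (CommRingCat.of (IsLocalRing.ResidueField R))) f
      (Spec.map (CommRingCat.ofHom (IsLocalRing.residue R))))

include hsq in
theorem isProper_special : IsProper (Xs ↘ Spec (CommRingCat.of (IsLocalRing.ResidueField R))) :=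
  MorphismProperty.of_isPullback hsq inferInstance

include hsq in
theorem closedPoint_geom [Flat f] [AlgebraicGeometry.IsReduced Xs]
    (hpure : ∀ C ∈ irreducibleComponents (Xs : Type u), topologicalKrullDim C = 1)
    (hgi : ∀ (C : Set Xs) (hC : C ∈ irreducibleComponents (Xs : Type u)),
      GeometricallyIntegral (VecSt.subschι Xs C (isClosed_of_mem_irreducibleComponents C hC) ≫
        (Xs ↘ Spec (CommRingCat.of (IsLocalRing.ResidueField R))))) :
    GeometricallyReduced (f.fiberToSpecResidueField (IsLocalRing.closedPoint R)) ∧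
      topologicalKrullDim (f.fiber (IsLocalRing.closedPoint R)) ≤ 1 := by
  have := isProper_special hsq
  have := Crv77.isNoetherian_of_proper (IsLocalRing.ResidueField R) Xs
  have hgr := geometricallyReduced_of_components hgi
  let s : Spec (CommRingCat.of R) := IsLocalRing.closedPoint R
  letI : (f.fiber s).Over (Spec (CommRingCat.of ((Spec (CommRingCat.of R)).residueField s))) :=
    ⟨f.fiberToSpecResidueField s⟩
  rcases point_cases (Ω := (Spec (CommRingCat.of R)).residueField s)
    ((Spec (CommRingCat.of R)).fromSpecResidueField s) with ⟨ψ, hψ⟩ | ⟨ψ, hψ⟩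
  · obtain ⟨b, -, hb⟩ := exists_fac (R' := IsLocalRing.ResidueField R) hsq (ψ := ψ)
      (a := f.fiberι s) (qY := f.fiberToSpecResidueField s) (by rw [← hψ]; exact IsPullback.of_hasPullback _ _)
    refine ⟨MorphismProperty.of_isPullback hb hgr, ?_⟩
    have hb' : IsExt Xs (f.fiber s) b ψ := hb
    rw [topologicalKrullDim_ext hb']
    exact Crv77.dim_le_one_of_components hpure
  · exfalso
    let c : Spec (CommRingCat.of ((Spec (CommRingCat.of R)).residueField s)) :=
      IsLocalRing.closedPoint ((Spec (CommRingCat.of R)).residueField s)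
    have h1 : (Spec (CommRingCat.of R)).fromSpecResidueField s c = s := Scheme.fromSpecResidueField_apply _ _
    rw [hψ] at h1
    have h2 := congrArg PrimeSpectrum.asIdeal h1
    change Ideal.comap (ψ.comp (algebraMap R (FractionRing R))) _ = IsLocalRing.maximalIdeal R at h2
    rw [show (c : PrimeSpectrum _).asIdeal = ⊥ from IsLocalRing.maximalIdeal_eq_bot] at h2
    have h3 : Ideal.comap (ψ.comp (algebraMap R (FractionRing R))) ⊥ = ⊥ :=
      (RingHom.injective_iff_ker_eq_bot _).1 (ψ.injective.comp (IsFractionRing.injective R (FractionRing R)))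
    exact IsDiscreteValuationRing.not_a_field R (h2.symm.trans h3)

include hsq in
/-- All geometric fibres are reduced curves. -/
theorem fibre_geom [Flat f] [AlgebraicGeometry.IsReduced Xs]
    (hpure : ∀ C ∈ irreducibleComponents (Xs : Type u), topologicalKrullDim C = 1)
    (hgi : ∀ (C : Set Xs) (hC : C ∈ irreducibleComponents (Xs : Type u)),
      GeometricallyIntegral (VecSt.subschι Xs C (isClosed_of_mem_irreducibleComponents C hC) ≫
        (Xs ↘ Spec (CommRingCat.of (IsLocalRing.ResidueField R)))))
    {Ω : Type u} [Field Ω] {t : Spec (CommRingCat.of Ω) ⟶ Spec (CommRingCat.of R)} {Y : Scheme.{u}}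
    {a : Y ⟶ X} {qY : Y ⟶ Spec (CommRingCat.of Ω)} (ha : IsPullback a qY f t) :
    IsProper qY ∧ AlgebraicGeometry.IsReduced Y ∧ topologicalKrullDim Y ≤ 1 := by
  have hp : IsProper qY := MorphismProperty.of_isPullback ha inferInstance
  obtain ⟨hgr, hd⟩ := closedPoint_geom hsq hpure hgi
  haveI : LocallyOfFinitePresentation f :=
    (LocallyOfFinitePresentation.iff_locallyOfFiniteType (f := f)).2 inferInstance
  let S := Spec (CommRingCat.of R)
  let s := t (IsLocalRing.closedPoint Ω)
  have hs : s ⤳ (IsLocalRing.closedPoint R : S) :=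
    IsLocalRing.specializes_closedPoint (R := R) s
  haveI hgrs : GeometricallyReduced (f.fiberToSpecResidueField s) :=
    hs.mem_open (S0435.result f) hgr
  have hds : topologicalKrullDim (f.fiber s) ≤ 1 := hs.mem_open (S0403.result f 1) hd
  let ψ : CommRingCat.of (S.residueField s) ⟶ CommRingCat.of Ω := S.descResidueField (Scheme.stalkClosedPointTo t)
  have ht : Spec.map ψ ≫ S.fromSpecResidueField s = t :=
    Scheme.descResidueField_stalkClosedPointTo_fromSpecResidueField Ω S t
  have hfib : IsPullback (f.fiberι s) (f.fiberToSpecResidueField s) f (S.fromSpecResidueField s) :=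
    IsPullback.of_hasPullback _ _
  letI : (f.fiber s).Over (Spec (CommRingCat.of (S.residueField s))) := ⟨f.fiberToSpecResidueField s⟩
  letI : Y.Over (Spec (CommRingCat.of Ω)) := ⟨qY⟩
  haveI : GeometricallyReduced (f.fiber s ↘ Spec (CommRingCat.of (S.residueField s))) := hgrs
  haveI : IsProper (f.fiber s ↘ Spec (CommRingCat.of (S.residueField s))) :=
    MorphismProperty.of_isPullback hfib inferInstance
  have hb : IsExt (f.fiber s) Y (hfib.lift a (qY ≫ Spec.map ψ) (by rw [Category.assoc, ht]; exact ha.w)) ψ.hom :=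
    IsPullback.of_right (by rw [hfib.lift_fst, CommRingCat.ofHom_hom, ht]; exact ha) (hfib.lift_snd _ _ _) hfib
  exact ⟨hp, isReduced_ext hb, (topologicalKrullDim_ext hb).trans_le hds⟩

include hsq in
/-- Euler characteristics of flat sheaves are the same on all fibres. -/
theorem euler_const {F : X.Modules} (hF : Coh.IsCoh F) (hf : FlatMod.IsFlatOver f F)
    {Ω : Type u} [Field Ω] {t : Spec (CommRingCat.of Ω) ⟶ Spec (CommRingCat.of R)} {Y : Scheme.{u}}
    {a : Y ⟶ X} [Y.Over (Spec (CommRingCat.of Ω))] (ha : IsPullback a (Y ↘ Spec (CommRingCat.of Ω)) f t) :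
    Curv2.euler Ω Y ((Scheme.Modules.pullback a).obj F) =
      Curv2.euler (IsLocalRing.ResidueField R) Xs ((Scheme.Modules.pullback i).obj F) := by
  haveI : LocallyOfFinitePresentation f :=
    (LocallyOfFinitePresentation.iff_locallyOfFiniteType (f := f)).2 inferInstance
  haveI : IsLocallyNoetherian X := LocallyOfFiniteType.isLocallyNoetherian f
  refine (euler_eq_eulerChar f t _ ha hF).trans (Eq.trans ?_ (euler_eq_eulerChar f _ _ hsq hF).symm)
  exact (S1026.result f F (QCCohInd72.isFP_of_isCoh hF) hf).apply_eq_of_preconnectedSpace _ _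

include hsq in
theorem euler_tensor_const {F E : X.Modules} {r : ℕ} (hF : Coh.IsCoh F) (hf : FlatMod.IsFlatOver f F)
    (hE : FlatMod.IsFinLocFreeOfRank r E)
    {Ω : Type u} [Field Ω] {t : Spec (CommRingCat.of Ω) ⟶ Spec (CommRingCat.of R)} {Y : Scheme.{u}}
    {a : Y ⟶ X} [Y.Over (Spec (CommRingCat.of Ω))] (ha : IsPullback a (Y ↘ Spec (CommRingCat.of Ω)) f t) :
    Curv2.euler Ω Y (CohB1.tensorMod ((Scheme.Modules.pullback a).obj F) ((Scheme.Modules.pullback a).obj E)) =
      Curv2.euler (IsLocalRing.ResidueField R) Xs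
        (CohB1.tensorMod ((Scheme.Modules.pullback i).obj F) ((Scheme.Modules.pullback i).obj E)) := by
  rw [← Crv77.euler_congr (k := Ω) (Desc59.AmpleDesc.pullTensIso a F E),
    ← Crv77.euler_congr (k := IsLocalRing.ResidueField R) (Desc59.AmpleDesc.pullTensIso i F E)]
  exact euler_const hsq (Crv77.isCoh_tensorMod hF (VarMods75.isCoh hE)) (isFlatOver_tensor f hF.1 hf hE) ha

end Groth.Agent.TF64
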