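import Groth.Agent.TF64.Lang.FieldMod
import Groth.Agent.TF64.Decompose

/-!
Stability and simplicity under extension to an algebraically closed field.
-/

set_option autoImplicit false
set_option backward.isDefEq.respectTransparency.types false
universe u

open CategoryTheory CategoryTheory.Limits AlgebraicGeometry TopologicalSpace
open Groth.Agent.QC70 (stalkMapM germM)

namespace Groth.Agent.TF64

theorem isCoh_pull {X Y : Scheme.{u}} (b : Y ⟶ X) {M : X.Modules} (hM : Coh.IsCoh M) :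
    Coh.IsCoh ((Scheme.Modules.pullback b).obj M) :=
  haveI := hM.1
  haveI := hM.2
  ⟨QCPull72.isQuasicoherent_pullback b M, QCPull72.isFiniteType_pullback b M⟩

section Decomp

variable {X : Scheme.{u}}

/-- `M` decomposes along `Z` and the components outside `Z`. -/
def Dec (M : X.Modules) (Z : Set X) : Prop :=
  GenClosed Z ∧ ∃ (Z' : Set X) (G G' : X.Modules) (π : M ⟶ G) (π' : M ⟶ G'),
    GenClosed Z' ∧ (∀ η ∈ genericPoints X, (η ∈ Z' ↔ η ∉ Z)) ∧
      TFOne.IsQuotOn X M Z G π ∧ TFOne.IsQuotOn X M Z' G' π' ∧ IsIso (biprod.lift π π')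

/-- `M` is indecomposable. -/
def Indec (M : X.Modules) : Prop :=
  ∀ Z : Set X, Z ≠ Set.univ → Z.Nonempty → ¬ Dec M Z

theorem compl_of_iso [AlgebraicGeometry.IsReduced X] {M G G' : X.Modules} (hM : TFOne.IsRkOne X M)
    {Z Z' : Set X} {π : M ⟶ G} {π' : M ⟶ G'} (hG : TFOne.IsQuotOn X M Z G π)
    (hG' : TFOne.IsQuotOn X M Z' G' π') (hiso : IsIso (biprod.lift π π')) {η : X} (hη : η ∈ genericPoints X) :
    η ∈ Z' ↔ η ∉ Z := by
  have hinj := QC70.injective_stalkMapM_of_mono (biprod.lift π π') η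
  have hlift : biprod.lift π π' = π ≫ biprod.inl + π' ≫ biprod.inr := biprod.lift_eq
  constructor
  · intro h' h
    obtain ⟨x, hx⟩ := @exists_ne _ (quot_nontrivial hG h) (0 : G.presheaf.stalk η)
    obtain ⟨m, hm⟩ := QC70.surjective_stalkMapM_of_epi (biprod.lift π π') η (stalkMapM biprod.inl η x)
    have h1 : stalkMapM π' η m = 0 := by
      rw [← biprod.lift_snd π π', stalkMapM_comp, hm, ← stalkMapM_comp, biprod.inl_snd, stalkMapM_zero]
    have h2 : stalkMapM π η m = x := by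
      rw [← biprod.lift_fst π π', stalkMapM_comp, hm, ← stalkMapM_comp, biprod.inl_fst, stalkMapM_id]
    exact hx (by rw [← h2, (quot_bijective hG' hM hη h').1 (h1.trans (map0 π' η).symm), map0])
  · intro h
    by_contra h'
    obtain ⟨m, hm⟩ := @exists_ne _ (nontrivial_stalk hM hη) (0 : M.presheaf.stalk η)
    refine hm (hinj ?_)
    rw [map0, hlift, stalkMapM_add, stalkMapM_comp, stalkMapM_comp, quot_zeroAt hG h m, quot_zeroAt hG' h' m,
      map0, map0, add_zero]

variable {k : Type u} [Field k] [X.Over (Spec (CommRingCat.of k))]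

/-- Over an algebraically closed field, an indecomposable torsion-free rank one sheaf is simple. -/
theorem isSimple_of_indec [IsAlgClosed k] [IsProper (X ↘ Spec (CommRingCat.of k))]
    [AlgebraicGeometry.IsReduced X] [Nonempty X] {M : X.Modules} (hM : TFOne.IsTF1 X M) (h : Indec M) :
    TFOne.IsSimple X k (X ↘ Spec (CommRingCat.of k)) M := by
  have := Crv77.isNoetherian_of_proper k X
  obtain ⟨hMc, htM, hMr⟩ := hM
  refine ⟨fun h0 => ?_, fun φ => by_contra fun hns => ?_⟩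
  · obtain ⟨η, hη, -⟩ := exists_generic (Classical.arbitrary X)
    obtain ⟨y, hy⟩ := @exists_ne _ (nontrivial_stalk hMr hη) (0 : M.presheaf.stalk η)
    exact hy ((stalkMapM_id M η y).symm.trans ((congrArg (fun f : M ⟶ M => stalkMapM f η y)
      (h0.eq_of_src (𝟙 M) 0)).trans (stalkMapM_zero η y)))
  push Not at hns
  have : Module.Finite k (End M) := module_finite_end (k := k) hMc
  obtain ⟨p, hp, hpφ⟩ := Algebra.IsIntegral.isIntegral (R := k) (A := End M) φ
  have hgen : ∀ η : X, ∃ c : k, η ∈ genericPoints X → ZeroAt (φ - Formal.smulMod k M c) η := fun η => by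
    by_cases hη : η ∈ genericPoints X
    swap
    · exact ⟨0, fun h => absurd h hη⟩
    obtain ⟨e⟩ := hMr η hη
    letI := (isField_stalk hη).toField
    letI : Algebra k (X.presheaf.stalk η) := (constStalk η).toAlgebra
    have hint : IsIntegral k (eigen e φ) := ⟨p, hp, by
      have h : (eigen e).comp (algebraMap k (End M)) = constStalk η := RingHom.ext (eigen_algebraMap e)
      rw [RingHom.algebraMap_toAlgebra, ← h, ← Polynomial.hom_eval₂, hpφ, map_zero]⟩
    obtain ⟨c, hc⟩ := minpoly.mem_range_of_degree_eq_one k (eigen e φ)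
      (IsAlgClosed.degree_eq_one_of_irreducible k (minpoly.irreducible hint))
    refine ⟨c, fun _ x => e.injective ?_⟩
    rw [stalkMapM_sub, map_sub, map_zero, stalkMapM_smulMod, map_smul, stalk_eq_mul e φ]
    change e x * eigen e φ - constStalk η c * e x = 0
    rw [show constStalk η c = eigen e φ from hc, mul_comm, sub_self]
  choose c hc using hgen
  obtain ⟨Z, Z', hZ, hZ', G, G', π, π', hZs, hZs', hne, -, hG, hG', hiso⟩ :=
    exists_decomposition hMc htM hMr φ c hc hns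
  obtain ⟨η, hη, hηZ⟩ := exists_generic_mem_subcurve hZs
  exact h Z hne ⟨η, hηZ⟩ ⟨genClosed_of_isSubcurve hZs hZ, Z', G, G', π, π', genClosed_of_isSubcurve hZs' hZ',
    fun ζ hζ => compl_of_iso hMr hG hG' hiso hζ, hG, hG', hiso⟩

end Decomp

variable {k K : Type u} [Field k] [Field K] {X Y : Scheme.{u}} [X.Over (Spec (CommRingCat.of k))]
  [Y.Over (Spec (CommRingCat.of K))] {b : Y ⟶ X} {ψ : k →+* K}
  [IsProper (X ↘ Spec (CommRingCat.of k))] [IsProper (Y ↘ Spec (CommRingCat.of K))]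
  [AlgebraicGeometry.IsReduced X] [AlgebraicGeometry.IsReduced Y]
  (hb : IsExt X Y b ψ)
  (hgi : ∀ (C : Set X) (hC : C ∈ irreducibleComponents (X : Type u)),
      GeometricallyIntegral (VecSt.subschι X C (isClosed_of_mem_irreducibleComponents C hC) ≫
        (X ↘ Spec (CommRingCat.of k))))
include hb hgi

theorem isTF1_pull {M : X.Modules} (hM : TFOne.IsTF1 X M) :
    TFOne.IsTF1 Y ((Scheme.Modules.pullback b).obj M) :=
  haveI := Crv77.isNoetherian_of_proper k X
  haveI := Crv77.isNoetherian_of_proper K Y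
  haveI := hM.1.1
  ⟨isCoh_pull b hM.1, isTorsionFree_pull hb hgi hM.1 hM.2.1, isRkOne_pull hb hgi hM.2.2⟩

theorem isTF1_of_pull {M : X.Modules} (hM : Coh.IsCoh M)
    (h : TFOne.IsTF1 Y ((Scheme.Modules.pullback b).obj M)) : TFOne.IsTF1 X M :=
  haveI := Crv77.isNoetherian_of_proper k X
  haveI := Crv77.isNoetherian_of_proper K Y
  haveI := hM.1
  ⟨hM, isTorsionFree_of_pull hb hgi hM h.2.1, isRkOne_of_pull hb hgi h.2.2⟩

theorem isQuotOn_pull {M G : X.Modules} {Z : Set X} {π : M ⟶ G} (h : TFOne.IsQuotOn X M Z G π) :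
    TFOne.IsQuotOn Y ((Scheme.Modules.pullback b).obj M) (b ⁻¹' Z) ((Scheme.Modules.pullback b).obj G)
      ((Scheme.Modules.pullback b).map π) := by
  have := Crv77.isNoetherian_of_proper k X
  have := Crv77.isNoetherian_of_proper K Y
  haveI := h.1
  haveI := h.2.1.1
  haveI := h.2.1.2
  haveI := (Scheme.Modules.pullbackPushforwardAdjunction b).leftAdjoint_preservesColimits
  exact ⟨inferInstance, isCoh_pull b h.2.1, isTorsionFree_pull hb hgi h.2.1 h.2.2.1,
    by rw [QCPull72.support_pullback, h.2.2.2]⟩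

theorem euler_tensor_pull {G E : X.Modules} {r : ℕ} (hE : FlatMod.IsFinLocFreeOfRank r E) (hG : Coh.IsCoh G) :
    Curv2.euler K Y (CohB1.tensorMod ((Scheme.Modules.pullback b).obj G) ((Scheme.Modules.pullback b).obj E)) =
      Curv2.euler k X (CohB1.tensorMod G E) := by
  rw [← Crv77.euler_congr (k := K) (Desc59.AmpleDesc.pullTensIso b G E)]
  exact euler_square (X ↘ Spec (CommRingCat.of k)) (Y ↘ Spec (CommRingCat.of K)) hb
    (Crv77.isCoh_tensorMod hG (VarMods75.isCoh hE))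

/-- Subcurves and their quotients upstairs come from downstairs. -/
theorem exists_rBeta_eq (hdim : topologicalKrullDim X ≤ 1) {M E : X.Modules} {r : ℕ}
    (hE : FlatMod.IsFinLocFreeOfRank r E) (hM : TFOne.IsTF1 X M) {Z' : Set Y} (hZ' : IsClosed Z')
    (hZs : VecSt.IsSubcurve Y Z') (hZu : Z' ≠ Set.univ) {G' : Y.Modules}
    {π' : (Scheme.Modules.pullback b).obj M ⟶ G'}
    (hG' : TFOne.IsQuotOn Y ((Scheme.Modules.pullback b).obj M) Z' G' π') :
    ∃ (Z : Set X) (hZ : IsClosed Z) (G : X.Modules) (π : M ⟶ G), VecSt.IsSubcurve X Z ∧ Z ≠ Set.univ ∧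
      b ⁻¹' Z = Z' ∧ TFOne.IsQuotOn X M Z G π ∧
      TFOne.rBeta Y K (Y ↘ Spec (CommRingCat.of K)) Z' hZ' ((Scheme.Modules.pullback b).obj E) r G' =
        TFOne.rBeta X k (X ↘ Spec (CommRingCat.of k)) Z hZ E r G := by
  have := Crv77.isNoetherian_of_proper k X
  have := Crv77.isNoetherian_of_proper K Y
  obtain ⟨Z, hZ, rfl⟩ := exists_eq_preimage hb hgi (genClosed_of_isSubcurve hZs hZ')
  obtain ⟨G, π, hG⟩ := exists_quot hM.1 hM.2.1 hM.2.2 hZ
  obtain ⟨η, hη, hηZ⟩ := exists_generic_mem_subcurve hZs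
  refine ⟨Z, hZ.1, G, π, isSubcurve_of_genClosed hZ ⟨b η, gen_image hb hgi hη, hηZ⟩,
    fun h => hZu (by rw [h, Set.preimage_univ]), rfl, hG, ?_⟩
  have hdimY : topologicalKrullDim Y ≤ 1 := by rwa [topologicalKrullDim_ext hb]
  obtain ⟨e, -⟩ := quot_unique (isTF1_pull hb hgi hM).2.2 hG' (isQuotOn_pull hb hgi hG)
  rw [rBeta_eq_euler_tensor hdim hE hM.2.2 hZ.1 hG,
    rBeta_eq_euler_tensor hdimY (isFinLocFreeOfRank_pull b hE) (isTF1_pull hb hgi hM).2.2 hZ' hG',
    Crv77.euler_congr (k := K) (EGA73.tensIso e (Iso.refl _)), euler_tensor_pull hb hgi hE hG.2.1]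

theorem isSemistable_ext (hdim : topologicalKrullDim X ≤ 1) {M E : X.Modules} {r : ℕ}
    (hE : FlatMod.IsFinLocFreeOfRank r E)
    (h : TFOne.IsSemistable X k (X ↘ Spec (CommRingCat.of k)) M E r) :
    TFOne.IsSemistable Y K (Y ↘ Spec (CommRingCat.of K)) ((Scheme.Modules.pullback b).obj M)
      ((Scheme.Modules.pullback b).obj E) r := by
  refine ⟨isTF1_pull hb hgi h.1, fun Z' hZ' hZs hZu G' π' hG' => ?_⟩
  obtain ⟨Z, hZ, G, π, hs, hu, -, hG, e⟩ := exists_rBeta_eq hb hgi hdim hE h.1 hZ' hZs hZu hG'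
  exact e ▸ h.2 Z hZ hs hu G π hG

theorem isQuasistableAtPt_ext (hdim : topologicalKrullDim X ≤ 1) {M E : X.Modules} {r : ℕ}
    (hE : FlatMod.IsFinLocFreeOfRank r E) {p : X} {p' : Y} (hp : b p' = p)
    (h : TFOne.IsQuasistableAtPt X k (X ↘ Spec (CommRingCat.of k)) M E r p) :
    TFOne.IsQuasistableAtPt Y K (Y ↘ Spec (CommRingCat.of K)) ((Scheme.Modules.pullback b).obj M)
      ((Scheme.Modules.pullback b).obj E) r p' := by
  refine ⟨isSemistable_ext hb hgi hdim hE h.1, fun Z' hZ' hZs hZu hpZ G' π' hG' => ?_⟩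
  obtain ⟨Z, hZ, G, π, hs, hu, hpre, hG, e⟩ := exists_rBeta_eq hb hgi hdim hE h.1.1 hZ' hZs hZu hG'
  have hmem : b p' ∈ Z := show p' ∈ b ⁻¹' Z from hpre.symm ▸ hpZ
  exact e ▸ h.2 Z hZ hs hu (hp ▸ hmem) G π hG

theorem isSimple_ext [IsAlgClosed K] [Nonempty X] {M : X.Modules} (hM : TFOne.IsTF1 X M) (h : Indec M) :
    TFOne.IsSimple Y K (Y ↘ Spec (CommRingCat.of K)) ((Scheme.Modules.pullback b).obj M) := by
  have := Crv77.isNoetherian_of_proper k X
  have := Crv77.isNoetherian_of_proper K Y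
  haveI := flat_ext hb
  haveI : Surjective b := ⟨surjective_ext hb⟩
  haveI := preservesBinaryBiproducts_of_preservesBiproducts (Scheme.Modules.pullback b)
  haveI : Nonempty Y := ⟨(surjective_ext hb (Classical.arbitrary X)).choose⟩
  refine isSimple_of_indec (isTF1_pull hb hgi hM) fun Z₁ hu hne ⟨hZ₁, Z₂, G₁, G₂, π₁, π₂, hZ₂, hc, hG₁, hG₂, hiso⟩ => ?_
  obtain ⟨Z, hZ, rfl⟩ := exists_eq_preimage hb hgi hZ₁
  obtain ⟨Z', hZ', rfl⟩ := exists_eq_preimage hb hgi hZ₂
  obtain ⟨G, π, hG⟩ := exists_quot hM.1 hM.2.1 hM.2.2 hZ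
  obtain ⟨G', π', hG'⟩ := exists_quot hM.1 hM.2.1 hM.2.2 hZ'
  obtain ⟨e, he⟩ := quot_unique (isTF1_pull hb hgi hM).2.2 hG₁ (isQuotOn_pull hb hgi hG)
  obtain ⟨e', he'⟩ := quot_unique (isTF1_pull hb hgi hM).2.2 hG₂ (isQuotOn_pull hb hgi hG')
  have hlift : (Scheme.Modules.pullback b).map (biprod.lift π π') =
      biprod.lift π₁ π₂ ≫ (biprod.mapIso e e').hom ≫ ((Scheme.Modules.pullback b).mapBiprod G G').inv := by
    rw [← biprod.lift_mapBiprod, ← Category.assoc]
    congr 1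
    apply biprod.hom_ext <;> simp [he, he']
  haveI := hiso
  haveI : IsIso ((Scheme.Modules.pullback b).map (biprod.lift π π')) := by rw [hlift]; infer_instance
  haveI := hG.2.1.1
  haveI := hG'.2.1.1
  haveI := hM.1.1
  have hiso' : IsIso (biprod.lift π π') := Desc59.QCohDesc.isIso_of_pullback b (biprod.lift π π')
  refine h Z (fun hZu => hu (by rw [hZu, Set.preimage_univ])) (hne.elim fun y hy => ⟨b y, hy⟩)
    ⟨hZ, Z', G, G', π, π', hZ', fun η hη => compl_of_iso hM.2.2 hG hG' hiso' hη, hG, hG', hiso'⟩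

end Groth.Agent.TF64
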