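import Groth.Agent.TF64.Lang.GeomRed
import Groth.Agent.TF64.Lang.Quot
import Groth.Agent.FBase64.ProductDim
import Mathlib.AlgebraicGeometry.Morphisms.Proper

/-!
Components under extension of the ground field, when they are geometrically integral.
-/

set_option autoImplicit false
universe u

open CategoryTheory CategoryTheory.Limits AlgebraicGeometry TopologicalSpace

namespace Groth.Agent.TF64

variable {k K : Type u} [Field k] [Field K] {X Y : Scheme.{u}} [X.Over (Spec (CommRingCat.of k))]
  [Y.Over (Spec (CommRingCat.of K))] {b : Y ⟶ X} {ψ : k →+* K}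

/-- A cartesian square extending the ground field. -/
abbrev IsExt (X Y : Scheme.{u}) [X.Over (Spec (CommRingCat.of k))] [Y.Over (Spec (CommRingCat.of K))]
    (b : Y ⟶ X) (ψ : k →+* K) : Prop :=
  IsPullback b (Y ↘ Spec (CommRingCat.of K)) (X ↘ Spec (CommRingCat.of k)) (Spec.map (CommRingCat.ofHom ψ))

variable (hb : IsExt X Y b ψ)
include hb

theorem isProper_ext [IsProper (X ↘ Spec (CommRingCat.of k))] : IsProper (Y ↘ Spec (CommRingCat.of K)) :=
  MorphismProperty.of_isPullback hb inferInstance

theorem flat_ext : Flat b :=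
  MorphismProperty.of_isPullback hb.flip (inferInstance : Flat _)

theorem surjective_ext : Function.Surjective b :=
  (MorphismProperty.of_isPullback hb.flip (inferInstance : Surjective _) : Surjective b).surj

theorem isReduced_ext [GeometricallyReduced (X ↘ Spec (CommRingCat.of k))] : AlgebraicGeometry.IsReduced Y :=
  GeometricallyReduced.geometrically_isReduced (Spec.map (CommRingCat.ofHom ψ)) b (Y ↘ _) hb

theorem topologicalKrullDim_ext [LocallyOfFiniteType (X ↘ Spec (CommRingCat.of k))] :
    topologicalKrullDim Y = topologicalKrullDim X := by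
  letI : Algebra k K := ψ.toAlgebra
  rw [IsHomeomorph.topologicalKrullDim_eq hb.isoPullback.hom (Scheme.Hom.homeomorph hb.isoPullback.hom).isHomeomorph]
  exact FBase64.topologicalKrullDim_bc (X ↘ Spec (CommRingCat.of k)) K

variable (hgi : ∀ (C : Set X) (hC : C ∈ irreducibleComponents (X : Type u)),
      GeometricallyIntegral (VecSt.subschι X C (isClosed_of_mem_irreducibleComponents C hC) ≫
        (X ↘ Spec (CommRingCat.of k))))
include hgi

theorem isIrreducible_preimage {C : Set X} (hC : C ∈ irreducibleComponents (X : Type u)) :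
    IsIrreducible (b ⁻¹' C) := by
  let ι := VecSt.subschι X C (isClosed_of_mem_irreducibleComponents C hC)
  haveI := hgi C hC
  have hsq : IsPullback (pullback.snd b ι) (pullback.fst b ι ≫ Y ↘ Spec (CommRingCat.of K))
      (ι ≫ X ↘ Spec (CommRingCat.of k)) (Spec.map (CommRingCat.ofHom ψ)) :=
    (IsPullback.of_hasPullback b ι).flip.paste_vert hb
  haveI : IsIntegral (pullback b ι) :=
    GeometricallyIntegral.geometrically_isIntegral _ _ _ hsq
  have h := (IrreducibleSpace.isIrreducible_univ ↥(pullback b ι)).image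
    (pullback.fst b ι) (pullback.fst b ι).continuous.continuousOn
  rwa [Set.image_univ, Scheme.Pullback.range_fst, range_subschι] at h

/-- The unique generic point over a generic point. -/
theorem exists_gen_over {η : X} (hη : η ∈ genericPoints X) :
    ∃ ζ ∈ genericPoints Y, b ζ = η ∧ ∀ w : Y, η ⤳ b w → ζ ⤳ w := by
  have hirr := isIrreducible_preimage hb hgi (C := closure {η}) hη
  have hcl : IsClosed (b ⁻¹' closure ({η} : Set X)) := isClosed_closure.preimage b.continuous
  have hgp := hirr.isGenericPoint_genericPoint hcl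
  let ζ := hirr.genericPoint
  have hsp : ∀ w : Y, η ⤳ b w → ζ ⤳ w := fun w hw => hgp.specializes (specializes_iff_mem_closure.1 hw)
  have hbζ : b ζ = η := by
    obtain ⟨w, hw⟩ := surjective_ext hb η
    exact eq_of_specializes_generic hη (hw ▸ (hsp w (by rw [hw])).map b.continuous)
  refine ⟨ζ, Mero90.MaxPt.closure_mem fun w hw => ?_, hbζ, hsp⟩
  have e : b w = η := eq_of_specializes_generic hη (hbζ ▸ hw.map b.continuous)
  exact (hw.antisymm (hsp w (by rw [e]))).eq

theorem gen_image {w : Y} (hw : w ∈ genericPoints Y) : b w ∈ genericPoints X := by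
  obtain ⟨η, hη, hs⟩ := exists_generic (b w)
  obtain ⟨ζ, hζ, hbζ, hsp⟩ := exists_gen_over hb hgi hη
  rw [← eq_of_specializes_generic hw (hsp w hs), hbζ]
  exact hη

theorem gen_injective {w w' : Y} (hw : w ∈ genericPoints Y) (hw' : w' ∈ genericPoints Y) (h : b w = b w') :
    w = w' := by
  obtain ⟨ζ, hζ, hbζ, hsp⟩ := exists_gen_over hb hgi (gen_image hb hgi hw)
  rw [← eq_of_specializes_generic hw (hsp w (specializes_refl _)),
    ← eq_of_specializes_generic hw' (hsp w' (by rw [h]))]

theorem genClosed_preimage {Z : Set X} (hZ : GenClosed Z) : GenClosed (b ⁻¹' Z) := by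
  refine ⟨hZ.1.preimage b.continuous, fun w hw => ?_⟩
  obtain ⟨η, hη, hηZ, hs⟩ := hZ.2 _ hw
  obtain ⟨ζ, hζ, hbζ, hsp⟩ := exists_gen_over hb hgi hη
  exact ⟨ζ, hζ, show b ζ ∈ Z by rw [hbζ]; exact hηZ, hsp w hs⟩

theorem exists_eq_preimage [AlgebraicGeometry.IsNoetherian X] {Z' : Set Y} (hZ' : GenClosed Z') :
    ∃ Z : Set X, GenClosed Z ∧ b ⁻¹' Z = Z' := by
  obtain ⟨Z, hZ, hiff⟩ := exists_genClosed {η : X | ∃ ζ ∈ genericPoints Y, ζ ∈ Z' ∧ b ζ = η}
  refine ⟨Z, hZ, (genClosed_preimage hb hgi hZ).ext hZ' fun w hw => ⟨fun h => ?_, fun h => ?_⟩⟩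
  · obtain ⟨ζ, hζ, hζZ, e⟩ := (hiff _ (gen_image hb hgi hw)).1 h
    rwa [← gen_injective hb hgi hζ hw e]
  · exact (hiff _ (gen_image hb hgi hw)).2 ⟨w, hw, h, rfl⟩

end Groth.Agent.TF64
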