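import Groth.Agent.TF64.Lang.FieldGeom
import Groth.Agent.TF64.Lang.EulerSq
import Groth.Agent.FBase64.AssTensor.PullBase
import Groth.Agent.FBase64.ReducedModField
import Groth.Agent.FlatMor68.PullbackStalk
import Groth.Agent.Desc59.AmpleDesc
import Groth.Agent.Desc59.QCohDesc
import Groth.Agent.TF64.Setting

/-!
Torsion-free rank one sheaves under extension of the ground field.
-/

set_option autoImplicit false
set_option backward.isDefEq.respectTransparency.types false
universe u

open CategoryTheory CategoryTheory.Limits AlgebraicGeometry TopologicalSpace TensorProduct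
open Groth.Agent.QC70 (stalkMapM germM)
open Groth.Agent.FBase64 Groth.Agent.FBase64.AssSheaf

namespace Groth.Agent.TF64

section Ass

variable {X : Scheme.{u}} [AlgebraicGeometry.IsNoetherian X] [AlgebraicGeometry.IsReduced X]

theorem ass_subset_gen {F : X.Modules} (htF : TorSh.IsTorsionFree F) : AssSch.Ass F ⊆ genericPoints X :=
  fun x hx => isField_mem_genericPoints
    (Ega11.TorFreeAss.isField_of_weakAss F htF x ((mem_ass_iff F x).1 hx))

theorem isTorsionFree_structure : TorSh.IsTorsionFree (Coh.structureModule X) := fun x => ⟨fun r hr a c h => by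
  refine (QC70.unitStalkEquiv x).symm.injective (hr.left ?_)
  have h' := congrArg (QC70.unitStalkEquiv (X := X) x).symm h
  simp only [map_smul, smul_eq_mul] at h'
  exact h'⟩

theorem isTorsionFree_of_ass {F : X.Modules} (hF : Coh.IsQCoh F) (h : AssSch.Ass F ⊆ genericPoints X) :
    TorSh.IsTorsionFree F :=
  isTorsionFree_of_detect fun W s hs =>
    Div89.section_eq_zero_of_germ_weakAss F hF s fun x hx hw => hs x (h ((mem_ass_iff F x).2 hw)) hx

end Ass

variable {k K : Type u} [Field k] [Field K] {X Y : Scheme.{u}} [X.Over (Spec (CommRingCat.of k))]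
  [Y.Over (Spec (CommRingCat.of K))] {b : Y ⟶ X} {ψ : k →+* K}
  (hb : IsExt X Y b ψ)
  [AlgebraicGeometry.IsNoetherian X] [AlgebraicGeometry.IsNoetherian Y]
  [AlgebraicGeometry.IsReduced X] [AlgebraicGeometry.IsReduced Y]
  (hgi : ∀ (C : Set X) (hC : C ∈ irreducibleComponents (X : Type u)),
      GeometricallyIntegral (VecSt.subschι X C (isClosed_of_mem_irreducibleComponents C hC) ≫
        (X ↘ Spec (CommRingCat.of k))))

omit [AlgebraicGeometry.IsReduced X] [AlgebraicGeometry.IsReduced Y] in
include hb in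
theorem mem_ass_pull {G : X.Modules} (hG : Coh.IsCoh G) (z : Y) :
    z ∈ AssSch.Ass ((Scheme.Modules.pullback b).obj G) ↔ b z ∈ AssSch.Ass G ∧
      ∃ a ∈ AssSch.Ass ((Scheme.Modules.pullback (b.fiberι (b z))).obj (Coh.structureModule Y)),
        b.fiberι (b z) a = z := by
  haveI := flat_ext hb
  rw [← AssTensor.mem_ass_pullTensor b G hG.1 _ (FBase64.RedField.isCoh_structure Y).1 (FBase64.RedField.isFlatOver_structure b)]
  exact Set.ext_iff.1 (AssTensor.ass_iso (EGA73.tensUnitRight _)).symm z

omit [AlgebraicGeometry.IsReduced Y] in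
include hb in
theorem mem_ass_structure_pull (z : Y) (hz : b z ∈ genericPoints X)
    (a : b.fiber (b z)) (ha : a ∈ AssSch.Ass ((Scheme.Modules.pullback (b.fiberι (b z))).obj (Coh.structureModule Y)))
    (haz : b.fiberι (b z) a = z) : z ∈ AssSch.Ass (Coh.structureModule Y) := by
  haveI := flat_ext hb
  have hO : b z ∈ AssSch.Ass (Coh.structureModule X) := by
    obtain ⟨x, hx, hs⟩ := exists_ass_specializes_structure (b z)
    rwa [← eq_of_specializes_generic hz hs]
  have h := (mem_ass_pull hb (FBase64.RedField.isCoh_structure X) z).2 ⟨hO, a, ha, haz⟩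
  exact (Set.ext_iff.1 (AssTensor.ass_iso (PicLoc.pullbackStructureIso b)) z).1 h

include hb hgi

theorem isTorsionFree_pull {G : X.Modules} (hG : Coh.IsCoh G) (htG : TorSh.IsTorsionFree G) :
    TorSh.IsTorsionFree ((Scheme.Modules.pullback b).obj G) := by
  haveI := hG.1
  refine isTorsionFree_of_ass (QCPull72.isQuasicoherent_pullback b G) fun z hz => ?_
  obtain ⟨h1, a, ha, haz⟩ := (mem_ass_pull hb hG z).1 hz
  exact ass_subset_gen (X := Y) isTorsionFree_structure
    (mem_ass_structure_pull hb z (ass_subset_gen htG h1) a ha haz)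

theorem isTorsionFree_of_pull {G : X.Modules} (hG : Coh.IsCoh G)
    (h : TorSh.IsTorsionFree ((Scheme.Modules.pullback b).obj G)) : TorSh.IsTorsionFree G := by
  refine isTorsionFree_of_ass hG.1 fun x hx => ?_
  obtain ⟨z₀, hz₀⟩ := surjective_ext hb x
  obtain ⟨a₀, ha₀⟩ : z₀ ∈ Set.range (b.fiberι x) := by rw [b.range_fiberι]; exact hz₀
  haveI := (FBase64.RedField.isCoh_structure Y).1
  haveI := (FBase64.RedField.isCoh_structure Y).2
  have hne : Nontrivial (((Scheme.Modules.pullback (b.fiberι x)).obj (Coh.structureModule Y)).presheaf.stalk a₀) :=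
    not_subsingleton_iff_nontrivial.1 fun hs => by
      have := (subsingleton_stalk_iff.1 hs)
      rw [QCPull72.support_pullback] at this
      exact this fun hs' => not_subsingleton ((Y.presheaf.stalk (b.fiberι x a₀)))
        (QC70.unitStalkEquiv (X := Y) (b.fiberι x a₀)).toEquiv.subsingleton
  obtain ⟨a, ha, -⟩ := exists_ass_specializes _ (QCPull72.isQuasicoherent_pullback _ _) a₀ hne
  have hbz : b (b.fiberι x a) = x := AssTensor.fiberι_over b x a
  have key : ∀ x' : X, x' = x → ∀ a' : b.fiber x',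
      a' ∈ AssSch.Ass ((Scheme.Modules.pullback (b.fiberι x')).obj (Coh.structureModule Y)) →
      b (b.fiberι x' a') = x' → x' ∈ AssSch.Ass G → x' ∈ genericPoints X := by
    intro x' _ a' ha' hb' hx'
    have hz : b.fiberι x' a' ∈ AssSch.Ass ((Scheme.Modules.pullback b).obj G) := by
      rw [mem_ass_pull hb hG]
      generalize hw : b.fiberι x' a' = w at hb' ⊢
      subst hb'
      exact ⟨hx', a', ha', hw⟩
    exact hb' ▸ gen_image hb hgi (ass_subset_gen h hz)
  exact key x rfl a ha hbz hx

omit [AlgebraicGeometry.IsNoetherian X] [AlgebraicGeometry.IsNoetherian Y]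

theorem isRkOne_pull {G : X.Modules} [G.IsQuasicoherent] (h : TFOne.IsRkOne X G) :
    TFOne.IsRkOne Y ((Scheme.Modules.pullback b).obj G) := fun z hz => by
  letI := (b.stalkMap z).hom.toAlgebra
  obtain ⟨e⟩ := FlatMor68.PullbackStalk.nonempty_stalkPullbackEquiv b G z
  obtain ⟨e'⟩ := h _ (gen_image hb hgi hz)
  exact ⟨e ≪≫ₗ e'.baseChange (X.presheaf.stalk (b z)) (Y.presheaf.stalk z) ≪≫ₗ
    AlgebraTensorModule.rid (X.presheaf.stalk (b z)) (Y.presheaf.stalk z) (Y.presheaf.stalk z)⟩

theorem isRkOne_of_pull {G : X.Modules} [G.IsQuasicoherent]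
    (h : TFOne.IsRkOne Y ((Scheme.Modules.pullback b).obj G)) : TFOne.IsRkOne X G := fun η hη => by
  obtain ⟨ζ, hζ, rfl, -⟩ := exists_gen_over hb hgi hη
  letI := (isField_stalk hη).toField
  letI := (b.stalkMap ζ).hom.toAlgebra
  obtain ⟨e⟩ := FlatMor68.PullbackStalk.nonempty_stalkPullbackEquiv b G ζ
  obtain ⟨e'⟩ := h ζ hζ
  letI := (isField_stalk hζ).toField
  have h1 : Module.finrank (X.presheaf.stalk (b ζ)) (G.presheaf.stalk (b ζ)) = 1 := by
    rw [← Module.finrank_baseChange (R := Y.presheaf.stalk ζ), (e.symm ≪≫ₗ e').finrank_eq, Module.finrank_self]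
  haveI : Module.Finite (X.presheaf.stalk (b ζ)) (G.presheaf.stalk (b ζ)) :=
    Module.finite_of_finrank_eq_succ (n := 0) h1
  exact ⟨LinearEquiv.ofFinrankEq _ _ (h1.trans (Module.finrank_self _).symm)⟩

end Groth.Agent.TF64
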