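import Groth.Agent.TF64.Basic
import Groth.Agent.TF64.Push
import Groth.Agent.VarGal.GeomRed
import Groth.Agent.RatFun90.Dense
import Mathlib.AlgebraicGeometry.Geometrically.Integral

/-!
A reduced scheme with geometrically integral components is geometrically reduced.
-/

set_option autoImplicit false
universe u

open CategoryTheory CategoryTheory.Limits AlgebraicGeometry TopologicalSpace

namespace Groth.Agent.TF64

theorem geometricallyReduced_of_components {k : Type u} [Field k] {X : Scheme.{u}}
    [X.Over (Spec (CommRingCat.of k))] [AlgebraicGeometry.IsNoetherian X] [AlgebraicGeometry.IsReduced X]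
    (hgi : ∀ (C : Set X) (hC : C ∈ irreducibleComponents (X : Type u)),
      GeometricallyIntegral (VecSt.subschι X C (isClosed_of_mem_irreducibleComponents C hC) ≫
        (X ↘ Spec (CommRingCat.of k)))) :
    GeometricallyReduced (X ↘ Spec (CommRingCat.of k)) := by
  refine VarGal.geometricallyReduced_of_maximal_points fun η hmax => ?_
  have hη : η ∈ genericPoints X := Mero90.MaxPt.closure_mem hmax
  have hC : closure ({η} : Set X) ∈ irreducibleComponents (X : Type u) := hη
  let ι := VecSt.subschι X (closure {η}) (isClosed_of_mem_irreducibleComponents _ hC)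
  haveI := hgi _ hC
  let f := X ↘ Spec (CommRingCat.of k)
  have hfin := NoetherianSpace.finite_irreducibleComponents (α := X)
  let V : X.Opens := RatFun90.compOpen hfin (closure ({η} : Set X))
  haveI : Surjective (ι ∣_ V) := ⟨fun v => by
    obtain ⟨w, hw⟩ : (v.1 : X) ∈ Set.range ι := by
      rw [range_subschι]; exact RatFun90.compOpen_subset hfin _ v.2
    refine ⟨⟨w, show ι w ∈ V by rw [hw]; exact v.2⟩, Subtype.ext ?_⟩
    exact (morphismRestrict_base_coe ι V _).trans hw⟩
  haveI : IsClosedImmersion (ι ∣_ V) := IsZariskiLocalAtTarget.restrict (P := @IsClosedImmersion) inferInstance V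
  haveI : IsIso (ι ∣_ V) := isIso_of_isClosedImmersion_of_surjective _
  let j : (V : Scheme.{u}) ⟶ VecSt.subsch X (closure {η}) (isClosed_of_mem_irreducibleComponents _ hC) :=
    inv (ι ∣_ V) ≫ (ι ⁻¹ᵁ V).ι
  have hj : j ≫ ι = V.ι := by
    simp only [j, Category.assoc, ← morphismRestrict_ι, IsIso.inv_hom_id_assoc]
  intro K _ _ x' hx'
  let t := Spec.map (CommRingCat.ofHom (algebraMap k K))
  -- the open piece is reduced
  have hred : AlgebraicGeometry.IsReduced (pullback (V.ι ≫ f) t) := by
    haveI : AlgebraicGeometry.IsReduced (pullback (ι ≫ f) t) :=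
      pullback_of_geometrically GeometricallyReduced.geometrically_isReduced _ _
    let m : pullback (j ≫ ι ≫ f) t ⟶ pullback (ι ≫ f) t :=
      pullback.map _ _ _ _ j (𝟙 _) (𝟙 _) (by simp) (by simp)
    have := isReduced_of_isOpenImmersion m
    rw [← hj, Category.assoc]
    exact this
  let m : pullback (V.ι ≫ f) t ⟶ pullback f t :=
    pullback.map _ _ _ _ V.ι (𝟙 _) (𝟙 _) (by simp) (by simp)
  obtain ⟨z, hz⟩ : x' ∈ Set.range m := by
    rw [Scheme.Pullback.range_map]
    refine ⟨?_, ⟨_, rfl⟩⟩
    show pullback.fst f t x' ∈ Set.range V.ι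
    rw [Scheme.Opens.range_ι]
    exact hx'.symm ▸ RatFun90.generic_mem_compOpen hfin hC isGenericPoint_closure
  have : _root_.IsReduced ((pullback (V.ι ≫ f) t).presheaf.stalk z) := inferInstance
  rw [← hz]
  exact isReduced_of_injective (asIso (m.stalkMap z)).commRingCatIsoToRingEquiv
    (asIso (m.stalkMap z)).commRingCatIsoToRingEquiv.injective

end Groth.Agent.TF64
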