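import Groth.Agent.TF64.Lang.Limit
import Groth.Agent.S0549
import Groth.Agent.GSS45.ClosedHom
import Mathlib.RingTheory.AdicCompletion.LocalRing
import Mathlib.RingTheory.AdicCompletion.AsTensorProduct

/-!
The completed trait, and the flat quotient of a family from an endlessly decomposing chain of modifications.
-/

set_option autoImplicit false
set_option backward.isDefEq.respectTransparency.types false
universe u

open CategoryTheory CategoryTheory.Limits AlgebraicGeometry TopologicalSpace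

namespace Groth.Agent.TF64

variable {R : Type u} [CommRing R] [IsDomain R] [IsDiscreteValuationRing R] {X : Scheme.{u}}
  (f : X ⟶ Spec (CommRingCat.of R)) {Xs : Scheme.{u}} (i : Xs ⟶ X)

/-- The family over the completed trait, with the same special fibre. -/
structure Hat where
  R₂ : Type u
  [comm : CommRing R₂]
  [dom : IsDomain R₂]
  [dvr : IsDiscreteValuationRing R₂]
  [complete : IsAdicComplete (IsLocalRing.maximalIdeal R₂) R₂]
  ρ : R →+* R₂
  ρ_inj : Function.Injective ρ
  uniformizer : ∀ t : R, IsLocalRing.maximalIdeal R = Ideal.span {t} → IsLocalRing.maximalIdeal R₂ = Ideal.span {ρ t}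
  X₂ : Scheme.{u}
  f₂ : X₂ ⟶ Spec (CommRingCat.of R₂)
  v : X₂ ⟶ X
  [flat : Flat v]
  i₂ : Xs ⟶ X₂
  hi : i₂ ≫ v = i
  hv : IsPullback v f₂ f (Spec.map (CommRingCat.ofHom ρ))
  qs₂ : Xs ⟶ Spec (CommRingCat.of (IsLocalRing.ResidueField R₂))
  hsq₂ : IsPullback i₂ qs₂ f₂ (Spec.map (CommRingCat.ofHom (IsLocalRing.residue R₂)))

attribute [instance] Hat.comm Hat.dom Hat.dvr Hat.complete Hat.flat

variable {f i} {qs : Xs ⟶ Spec (CommRingCat.of (IsLocalRing.ResidueField R))}

theorem exists_hat (hsq : IsPullback i qs f (Spec.map (CommRingCat.ofHom (IsLocalRing.residue R)))) :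
    Nonempty (Hat f i) := by
  let R₂ := AdicCompletion (IsLocalRing.maximalIdeal R) R
  obtain ⟨hdom, hdvr⟩ := (S0549.result R).1 ⟨inferInstance, inferInstance⟩
  let ρ : R →+* R₂ := algebraMap R R₂
  have hfl : RingHom.Flat ρ := RingHom.flat_algebraMap_iff.2 (AdicCompletion.flat_of_isNoetherian _)
  have hinj : Function.Injective ρ := AdicCompletion.of_injective (IsLocalRing.maximalIdeal R) R
  have hcart := IsPullback.of_hasPullback f (Spec.map (CommRingCat.ofHom ρ))
  haveI : Flat (Spec.map (CommRingCat.ofHom ρ)) := (HasRingHomProperty.Spec_iff (P := @Flat)).2 hfl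
  haveI hloc : IsLocalHom ρ := AdicCompletion.algebraMap_isLocalHom_of_fg (IsNoetherian.noetherian _)
  let σ := RingEquiv.ofBijective (IsLocalRing.ResidueField.map ρ) (AdicCompletion.residueField_map_bijective R)
  let qs₂ : Xs ⟶ Spec (CommRingCat.of (IsLocalRing.ResidueField R₂)) :=
    qs ≫ Spec.map (CommRingCat.ofHom σ.symm.toRingHom)
  have he : Spec.map (CommRingCat.ofHom σ.symm.toRingHom) ≫ Spec.map (CommRingCat.ofHom (IsLocalRing.residue R₂)) ≫
      Spec.map (CommRingCat.ofHom ρ) = Spec.map (CommRingCat.ofHom (IsLocalRing.residue R)) := by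
    simp only [← Spec.map_comp, ← CommRingCat.ofHom_comp]
    congr 2
    refine RingHom.ext fun r => σ.injective ?_
    simp only [RingHom.comp_apply, RingEquiv.toRingHom_eq_coe, RingEquiv.coe_toRingHom, RingEquiv.apply_symm_apply]
    exact (IsLocalRing.ResidueField.map_residue ρ r).symm
  let i₂ : Xs ⟶ pullback f (Spec.map (CommRingCat.ofHom ρ)) :=
    hcart.lift i (qs₂ ≫ Spec.map (CommRingCat.ofHom (IsLocalRing.residue R₂))) (by
      simp only [qs₂, Category.assoc, he]; exact hsq.w)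
  let se : Spec (CommRingCat.of (IsLocalRing.ResidueField R)) ≅ Spec (CommRingCat.of (IsLocalRing.ResidueField R₂)) :=
    haveI : IsIso (Spec.map (CommRingCat.ofHom σ.symm.toRingHom)) :=
      haveI : IsIso (CommRingCat.ofHom σ.symm.toRingHom) :=
        σ.symm.toCommRingCatIso.isIso_hom
      inferInstance
    asIso (Spec.map (CommRingCat.ofHom σ.symm.toRingHom))
  have hsq₂ : IsPullback i₂ qs₂ (pullback.snd f (Spec.map (CommRingCat.ofHom ρ)))
      (Spec.map (CommRingCat.ofHom (IsLocalRing.residue R₂))) := by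
    refine IsPullback.of_right ?_ (hcart.lift_snd _ _ _) hcart
    rw [hcart.lift_fst]
    refine hsq.of_iso (Iso.refl _) (Iso.refl _) se (Iso.refl _) (by simp) (by simp [qs₂, se]) (by simp) ?_
    simp only [se, asIso_hom, Iso.refl_hom, Category.comp_id]
    exact he.symm
  exact ⟨{
    R₂ := R₂
    dom := hdom
    dvr := hdvr
    complete := AdicCompletion.isAdicComplete_of_fg (IsNoetherian.noetherian _)
    ρ := ρ
    ρ_inj := hinj
    uniformizer := fun t ht => AdicCompletion.maximalIdeal_eq_map.trans ((congrArg (Ideal.map ρ) ht).trans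
      (by rw [Ideal.map_span, Set.image_singleton]))
    X₂ := _
    f₂ := pullback.snd _ _
    v := pullback.fst _ _
    i₂ := i₂
    hi := hcart.lift_fst _ _ _
    hv := hcart
    qs₂ := qs₂
    hsq₂ := hsq₂ }⟩

variable [Xs.Over (Spec (CommRingCat.of (IsLocalRing.ResidueField R)))] [IsProper f]
  [AlgebraicGeometry.IsReduced Xs]
  (hsq : IsPullback i (Xs ↘ Spec (CommRingCat.of (IsLocalRing.ResidueField R))) f
      (Spec.map (CommRingCat.ofHom (IsLocalRing.residue R))))

include hsq in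
/-- An endlessly decomposing chain of modifications along `Y` gives a flat quotient over the completed trait. -/
theorem Hat.exists_quotient (H : Hat f i) {Y Y' : Set Xs} (hY : GenClosed Y) (hY'g : GenClosed Y')
    (hY' : ∀ η ∈ genericPoints Xs, (η ∈ Y' ↔ η ∉ Y)) (P : X.Modules → Prop)
    (hP : ∀ I', P I' → Coh.IsCoh I' ∧ FlatMod.IsFlatOver f I' ∧
      TFOne.IsTF1 Xs ((Scheme.Modules.pullback i).obj I') ∧
      ∀ (G : Xs.Modules) (π : (Scheme.Modules.pullback i).obj I' ⟶ G),
        TFOne.IsQuotOn Xs ((Scheme.Modules.pullback i).obj I') Y G π →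
          P (kernel (toPush i π)) ∧
            ∀ (G' : Xs.Modules) (π' : (Scheme.Modules.pullback i).obj I' ⟶ G'),
              TFOne.IsQuotOn Xs ((Scheme.Modules.pullback i).obj I') Y' G' π' → IsIso (biprod.lift π π'))
    {I : X.Modules} (hI : P I) {G : Xs.Modules} {π : (Scheme.Modules.pullback i).obj I ⟶ G}
    (hG : TFOne.IsQuotOn Xs ((Scheme.Modules.pullback i).obj I) Y G π) :
    ∃ (F : H.X₂.Modules) (p : (Scheme.Modules.pullback H.v).obj I ⟶ F),
      Coh.IsCoh F ∧ FlatMod.IsFlatOver H.f₂ F ∧ Epi p ∧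
      ∃ e : (Scheme.Modules.pullback H.i₂).obj F ≅ G,
        (Scheme.Modules.pullback H.i₂).map p ≫ e.hom = (pullIso H.hi I).hom ≫ π := by
  obtain ⟨t, ht⟩ := IsPrincipalIdealRing.principal (IsLocalRing.maximalIdeal R)
  rw [Ideal.submodule_span_eq] at ht
  letI : X.Over (Spec (CommRingCat.of R)) := ⟨f⟩
  haveI : IsProper (X ↘ Spec (CommRingCat.of R)) := ‹IsProper f›
  letI : H.X₂.Over (Spec (CommRingCat.of H.R₂)) := ⟨H.f₂⟩
  haveI : IsProper (H.X₂ ↘ Spec (CommRingCat.of H.R₂)) := MorphismProperty.of_isPullback H.hv ‹IsProper f›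
  haveI := isClosedImmersion_special f i hsq
  haveI : IsLocallyNoetherian X := LocallyOfFiniteType.isLocallyNoetherian f
  haveI := isProper_special hsq
  haveI := Crv77.isNoetherian_of_proper (IsLocalRing.ResidueField R) Xs
  let S := {I' : X.Modules // P I'}
  have hq : ∀ s : S, ∃ (G : Xs.Modules) (π : (Scheme.Modules.pullback i).obj s.1 ⟶ G),
      TFOne.IsQuotOn Xs ((Scheme.Modules.pullback i).obj s.1) Y G π := fun s =>
    exists_quot (hP _ s.2).2.2.1.1 (hP _ s.2).2.2.1.2.1 (hP _ s.2).2.2.1.2.2 hY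
  have hq' : ∀ s : S, ∃ (G : Xs.Modules) (π : (Scheme.Modules.pullback i).obj s.1 ⟶ G),
      TFOne.IsQuotOn Xs ((Scheme.Modules.pullback i).obj s.1) Y' G π := fun s =>
    exists_quot (hP _ s.2).2.2.1.1 (hP _ s.2).2.2.1.2.1 (hP _ s.2).2.2.1.2.2 hY'g
  choose Gs πs hGs using hq
  choose Gs' πs' hGs' using hq'
  let nx : S → S := fun s => ⟨kernel (toPush i (πs s)), ((hP _ s.2).2.2.2 _ _ (hGs s)).1⟩
  let sq : ℕ → S := fun n => nx^[n] ⟨I, hI⟩
  have hstep : ∀ n, (sq (n + 1)).1 = kernel (toPush i (πs (sq n))) := fun n => by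
    simp only [sq, Function.iterate_succ_apply']
    rfl
  have hdec : ∀ n, IsIso (biprod.lift (πs (sq n)) (πs' (sq n))) := fun n =>
    ((hP _ (sq n).2).2.2.2 _ _ (hGs _)).2 _ _ (hGs' _)
  have hD : ∀ n, Nonempty (StepData t (πs (sq n)) (πs (sq (n + 1)))) := fun n =>
    (exists_step (X := X) hsq ht (hP _ (sq n).2).1 (hP _ (sq n).2).2.1 (hP _ (sq n).2).2.2.1 hY'
      (hGs _) (hGs' _) (hdec n) (hstep n) (hGs _) (hGs' _) (hdec (n + 1))).2.2.2
  have hu : ∀ n, Epi (toPush i (πs (sq n))) := fun n => by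
    obtain ⟨_, -, he⟩ := exact_unit f i hsq ht rfl (hP _ (sq n).2).1
    haveI := (hGs (sq n)).1
    haveI := GSS45.ClosedHom.preservesEpimorphisms_pushforward i
    haveI : Epi ((Scheme.Modules.pushforward i).map (πs (sq n))) := inferInstance
    exact epi_comp _ _
  let T : Tower i t :=
    { In := fun n => (sq n).1, G := fun n => Gs (sq n), π := fun n => πs (sq n), D := fun n => (hD n).some,
      coh := fun n => (hP _ (sq n).2).1, epi_π := fun n => (hGs _).1, epi_u := hu }
  obtain ⟨T₂, hIn, eG, hπ⟩ := T.exists_pull (i₂ := H.i₂) (v := H.v) H.hi (ρ := H.ρ) H.hv.w H.hsq₂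
    (H.uniformizer t ht) fun n => (hGs _).2.1
  obtain ⟨F, p, hF, hp, hFf, e, he⟩ := T₂.exists_quotient_coh H.hsq₂ (H.uniformizer t ht)
    (QC70.isCoh_of_iso eG.symm (hGs _).2.1)
  obtain ⟨u, hu⟩ := quot_unique (hP _ hI).2.2.1.2.2 (hGs (sq 0)) hG
  haveI := hp
  refine ⟨F, eqToHom hIn.symm ≫ p, hF, hFf, inferInstance, e ≪≫ eG ≪≫ u, ?_⟩
  haveI := (hGs (sq 0)).1
  simp only [Functor.map_comp, Iso.trans_hom, Category.assoc]
  rw [reassoc_of% he, reassoc_of% hπ, ← Category.assoc, ← Functor.map_comp, eqToHom_trans]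
  erw [eqToHom_refl, CategoryTheory.Functor.map_id, Category.id_comp]
  exact congrArg _ hu

end Groth.Agent.TF64
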