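import Groth.Agent.TF64.Lang.TowerPull

/-!
Flat quotients on a proper family over a trait: vanishing is detected on either fibre.
-/

set_option autoImplicit false
set_option backward.isDefEq.respectTransparency.types false
universe u

open CategoryTheory CategoryTheory.Limits AlgebraicGeometry TopologicalSpace
open Groth.Agent.QC70 (stalkMapM germM)

namespace Groth.Agent.TF64

theorem isZero_of_stalks_subsingleton {X : Scheme.{u}} {M : X.Modules}
    (h : ∀ x : X, Subsingleton (M.presheaf.stalk x)) : IsZero M := by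
  haveI := h
  haveI : Mono (0 : M ⟶ M) := QC70.mono_of_injective_stalkMapM _ fun x a b _ => Subsingleton.elim a b
  rw [IsZero.iff_id_eq_zero, ← cancel_mono (0 : M ⟶ M)]
  simp

variable {R : Type u} [CommRing R] [IsDomain R] [IsDiscreteValuationRing R] {X : Scheme.{u}}
  [X.Over (Spec (CommRingCat.of R))] [IsProper (X ↘ Spec (CommRingCat.of R))] {Xs : Scheme.{u}} {i : Xs ⟶ X}
  {qs : Xs ⟶ Spec (CommRingCat.of (IsLocalRing.ResidueField R))}
  (hsq : IsPullback i qs (X ↘ Spec (CommRingCat.of R)) (Spec.map (CommRingCat.ofHom (IsLocalRing.residue R))))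

omit [IsProper (X ↘ Spec (CommRingCat.of R))] in
include hsq in
theorem mem_range_special {x : X} :
    x ∈ Set.range i ↔ (X ↘ Spec (CommRingCat.of R)) x = IsLocalRing.closedPoint R := by
  have h : Set.range i = (X ↘ Spec (CommRingCat.of R)) ⁻¹'
      Set.range (Spec.map (CommRingCat.ofHom (IsLocalRing.residue R))) := by
    rw [← Scheme.Pullback.range_fst]
    ext y
    constructor
    · rintro ⟨z, rfl⟩
      exact ⟨hsq.isoPullback.hom z, by rw [← Scheme.Hom.comp_apply, hsq.isoPullback_hom_fst]⟩
    · rintro ⟨z, rfl⟩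
      exact ⟨hsq.isoPullback.inv z, by rw [← Scheme.Hom.comp_apply, hsq.isoPullback_inv_fst]⟩
  have hr : ∀ z : Spec (CommRingCat.of (IsLocalRing.ResidueField R)),
      Spec.map (CommRingCat.ofHom (IsLocalRing.residue R)) z = IsLocalRing.closedPoint R := fun z => by
    refine PrimeSpectrum.ext ?_
    change Ideal.comap (IsLocalRing.residue R) (show PrimeSpectrum _ from z).asIdeal = IsLocalRing.maximalIdeal R
    rw [(Ideal.eq_bot_or_top (show PrimeSpectrum (IsLocalRing.ResidueField R) from z).asIdeal).resolve_right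
      (show PrimeSpectrum (IsLocalRing.ResidueField R) from z).isPrime.ne_top, ← RingHom.ker_eq_comap_bot,
      IsLocalRing.ker_residue]
  rw [h, Set.mem_preimage]
  exact ⟨fun ⟨z, hz⟩ => hz ▸ hr z, fun hx => ⟨IsLocalRing.closedPoint (IsLocalRing.ResidueField R), (hr _).trans hx.symm⟩⟩

omit [IsDiscreteValuationRing R] [IsDomain R] [IsProper (X ↘ Spec (CommRingCat.of R))] in
theorem mem_basicOpen_toGlobal (x : X) (t : R) :
    x ∈ X.basicOpen (Coh.toGlobal (X ↘ Spec (CommRingCat.of R)) t) ↔
      t ∉ ((X ↘ Spec (CommRingCat.of R)) x : PrimeSpectrum R).asIdeal := by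
  change x ∈ X.basicOpen ((X ↘ Spec (CommRingCat.of R)).appTop ((Scheme.ΓSpecIso (CommRingCat.of R)).inv t)) ↔ _
  rw [← Scheme.preimage_basicOpen_top]
  change (X ↘ Spec (CommRingCat.of R)) x ∈ (Spec (CommRingCat.of R)).basicOpen _ ↔ _
  rw [basicOpen_eq_of_affine]
  rfl

include hsq in
/-- A closed set missing the special fibre is empty. -/
theorem eq_empty_of_special {Z : Set X} (hZ : IsClosed Z) (h : Z ∩ Set.range i = ∅) : Z = ∅ := by
  by_contra hne
  obtain ⟨x, hx⟩ := Set.nonempty_iff_ne_empty.2 hne
  let q := X ↘ Spec (CommRingCat.of R)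
  have hs : q x ⤳ (IsLocalRing.closedPoint R : Spec (CommRingCat.of R)) :=
    IsLocalRing.specializes_closedPoint (R := R) (q x)
  obtain ⟨y, hy, hyq⟩ := hs.mem_closed (q.isClosedMap Z hZ) ⟨x, hx, rfl⟩
  exact (Set.eq_empty_iff_forall_notMem.1 h) y ⟨hy, (mem_range_special hsq).2 hyq⟩

include hsq in
theorem isZero_of_special {M : X.Modules} (hM : Coh.IsCoh M)
    (h : IsZero ((Scheme.Modules.pullback i).obj M)) : IsZero M := by
  haveI := hM.1
  haveI := hM.2
  have h0 : CohB1.support M = ∅ := eq_empty_of_special hsq (QC70.isClosed_support M)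
    (Set.eq_empty_iff_forall_notMem.2 fun x ⟨hx, z, hz⟩ => by
      have hz' : z ∈ CohB1.support ((Scheme.Modules.pullback i).obj M) := by
        rw [QCPull72.support_pullback, Set.mem_preimage, hz]; exact hx
      exact hz' (subsingleton_of_forall_eq 0 fun e => (stalkMapM_id _ z e).symm.trans
        ((congrArg (fun φ => stalkMapM φ z e) (h.eq_of_src (𝟙 _) 0)).trans (stalkMapM_zero z e))))
  exact isZero_of_stalks_subsingleton fun x => subsingleton_stalk_iff.2 (h0 ▸ Set.notMem_empty x)

variable {t : R} (ht : IsLocalRing.maximalIdeal R = Ideal.span {t})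

include hsq ht in
/-- A flat coherent module supported on the special fibre vanishes. -/
theorem isZero_of_support_special {M : X.Modules} (hM : Coh.IsCoh M) [Mono (Formal.smulMod R M t)]
    (h : CohB1.support M ⊆ Set.range i) : IsZero M := by
  haveI := hM.1
  haveI := hM.2
  refine isZero_of_stalks_subsingleton fun x => subsingleton_stalk_iff.2 fun hx => ?_
  obtain ⟨U, hU, hxU, -⟩ := exists_isAffineOpen_mem_and_subset (X := X) (x := x) (U := ⊤) trivial
  haveI := QC70.finite_sections_of_isFiniteType M hU
  let q := X ↘ Spec (CommRingCat.of R)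
  let g : Γ(X, U) := Formal27.gi R X U t
  have hmem : g ∈ (Module.annihilator Γ(X, U) Γ(M, U)).radical := by
    rw [Ideal.radical_eq_sInf]
    refine Submodule.mem_sInf.2 fun P ⟨hP, hPp⟩ => ?_
    let p : PrimeSpectrum Γ(X, U) := ⟨P, hPp⟩
    have hp : p ∈ Module.support Γ(X, U) Γ(M, U) := by
      rw [Module.support_eq_zeroLocus]; exact hP
    have hw : hU.fromSpec p ∈ U := hU.range_fromSpec.le ⟨p, rfl⟩
    have hpt : hU.primeIdealOf ⟨_, hw⟩ = p := hU.fromSpec.isOpenEmbedding.injective (hU.fromSpec_primeIdealOf _)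
    have hws : hU.fromSpec p ∈ CohB1.support M := by
      rw [← QCSupp72.mem_support_iff M hU hw, hpt]; exact hp
    have hq := (mem_range_special hsq).1 (h hws)
    by_contra hg
    have hb : p ∈ PrimeSpectrum.basicOpen g := hg
    rw [← hU.fromSpec_preimage_basicOpen] at hb
    have hb' : hU.fromSpec p ∈ X.basicOpen (Coh.toGlobal q t) := by
      have := hb
      change hU.fromSpec p ∈ X.basicOpen g at this
      simp only [g, Formal27.gi, RingHom.coe_comp, Function.comp_apply] at this
      rw [Scheme.basicOpen_res] at this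
      exact this.2
    have hb'' := (mem_basicOpen_toGlobal _ _).1 hb'
    rw [hq] at hb''
    exact hb'' (ht.ge (Ideal.mem_span_singleton_self t))
  obtain ⟨n, hn⟩ := hmem
  have hinj : Function.Injective fun m : Γ(M, U) => g • m := QC70.app_injective_of_mono (Formal.smulMod R M t) U
  have hzero : ∀ m : Γ(M, U), m = 0 := fun m => by
    have hm : g ^ n • m = 0 := Module.mem_annihilator.1 hn m
    clear hn
    induction n generalizing m with
    | zero => simpa using hm
    | succ n ih =>
      rw [pow_succ, mul_smul] at hm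
      exact hinj ((ih _ hm).trans (smul_zero g).symm)
  rw [← QCSupp72.mem_support_iff M hU hxU] at hx
  haveI : Subsingleton Γ(M, U) := subsingleton_of_forall_eq 0 hzero
  rw [Module.support_eq_empty] at hx
  exact hx

include hsq ht in
/-- A flat coherent module vanishing on a geometric generic fibre vanishes. -/
theorem isZero_of_pull_generic {M : X.Modules} (hM : Coh.IsCoh M) [Mono (Formal.smulMod R M t)]
    {Ω : Type u} [Field Ω] {φ : R →+* Ω} (hφ : Function.Injective φ) {Y : Scheme.{u}} {a : Y ⟶ X}
    {qY : Y ⟶ Spec (CommRingCat.of Ω)}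
    (ha : IsPullback a qY (X ↘ Spec (CommRingCat.of R)) (Spec.map (CommRingCat.ofHom φ)))
    (h : IsZero ((Scheme.Modules.pullback a).obj M)) : IsZero M := by
  refine isZero_of_support_special hsq ht hM fun x hx => ?_
  haveI := hM.1
  haveI := hM.2
  by_contra hxs
  let q := X ↘ Spec (CommRingCat.of R)
  have hgen : (q x : PrimeSpectrum R).asIdeal = ⊥ := by
    by_contra hne
    exact hxs ((mem_range_special hsq).2 (PrimeSpectrum.ext
      (IsLocalRing.eq_maximalIdeal (Ideal.IsPrime.isMaximal (q x : PrimeSpectrum R).isPrime hne))))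
  have hqx : q x = Spec.map (CommRingCat.ofHom φ) (IsLocalRing.closedPoint Ω) := by
    refine PrimeSpectrum.ext ?_
    change (q x : PrimeSpectrum R).asIdeal = Ideal.comap φ (IsLocalRing.maximalIdeal Ω)
    rw [hgen, IsLocalRing.maximalIdeal_eq_bot]
    exact ((RingHom.injective_iff_ker_eq_bot φ).1 hφ).symm
  obtain ⟨z, hz, -⟩ := Scheme.Pullback.exists_preimage_pullback (f := q) (g := Spec.map (CommRingCat.ofHom φ))
    x (IsLocalRing.closedPoint Ω) hqx
  have hy : a (ha.isoPullback.inv z) = x := by
    rw [← Scheme.Hom.comp_apply, ha.isoPullback_inv_fst]; exact hz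
  have hy' : ha.isoPullback.inv z ∈ CohB1.support ((Scheme.Modules.pullback a).obj M) := by
    rw [QCPull72.support_pullback, Set.mem_preimage, hy]; exact hx
  exact hy' (subsingleton_of_forall_eq 0 fun e => (stalkMapM_id _ _ e).symm.trans
    ((congrArg (fun φ => stalkMapM φ _ e) (h.eq_of_src (𝟙 _) 0)).trans (stalkMapM_zero _ e)))

include hsq ht in
/-- Where the reduction of a map to a flat module is injective, so is the map. -/
theorem subsingleton_kernel_stalk {I F : X.Modules} (hI : Coh.IsCoh I) (hF : Coh.IsCoh F)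
    [Mono (Formal.smulMod R I t)] [Mono (Formal.smulMod R F t)] (p : I ⟶ F) (z : Xs)
    (hinj : Function.Injective (stalkMapM ((Scheme.Modules.pullback i).map p) z)) :
    Subsingleton ((kernel p).presheaf.stalk (i z)) := by
  have := isClosedImmersion_special _ i hsq
  haveI : IsLocallyNoetherian X := LocallyOfFiniteType.isLocallyNoetherian (X ↘ Spec (CommRingCat.of R))
  let adj := Scheme.Modules.pullbackPushforwardAdjunction i
  have hK : Coh.IsCoh (kernel p) := QC70.isCoh_kernel p hI hF.1
  haveI := hK.1
  haveI := hK.2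
  haveI := QC70.finite_stalk (kernel p) (i z)
  obtain ⟨wI, hexI, -⟩ := exact_unit _ i hsq ht rfl hI
  obtain ⟨wF, -, -⟩ := exact_unit _ i hsq ht rfl hF
  have nat : ∀ a : I.presheaf.stalk (i z),
      stalkMapM ((Scheme.Modules.pullback i).map p) z
          (QC70.pushStalk i _ z (stalkMapM (adj.unit.app I) (i z) a)) =
        QC70.pushStalk i _ z (stalkMapM (adj.unit.app F) (i z) (stalkMapM p (i z) a)) := fun a => by
    rw [← QC70.pushStalk_stalkMapM, ← stalkMapM_comp, ← stalkMapM_comp]
    exact congrArg (fun φ => QC70.pushStalk i _ z (stalkMapM φ (i z) a)) (adj.unit.naturality p).symm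
  have hall : ∀ k : (kernel p).presheaf.stalk (i z), ∃ k', scalStalk (i z) t • k' = k := fun k => by
    have hp0 : stalkMapM p (i z) (stalkMapM (kernel.ι p) (i z) k) = 0 := by
      rw [← stalkMapM_comp, kernel.condition, stalkMapM_zero]
    have h0 : stalkMapM (adj.unit.app I) (i z) (stalkMapM (kernel.ι p) (i z) k) = 0 := by
      refine (QC70.bijective_pushStalk i _ z).1 ((hinj ?_).trans (map_zero _).symm)
      rw [nat, hp0, map0, map_zero, map0]
    obtain ⟨e, he⟩ := QC70.stalkMapM_exact (ShortComplex.mk _ _ wI) hexI (i z) _ h0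
    have hpe : stalkMapM p (i z) e = 0 := by
      refine QC70.injective_stalkMapM_of_mono (Formal.smulMod R F t) (i z) ?_
      rw [map0, ← stalkMapM_comp, Formal27.smulMod_comp, stalkMapM_comp]
      exact (congrArg (stalkMapM p (i z)) he).trans hp0
    obtain ⟨k', hk'⟩ := QC70.stalkMapM_exact (ShortComplex.mk (kernel.ι p) p (kernel.condition p))
      (ShortComplex.exact_of_f_is_kernel _ (kernelIsKernel p)) (i z) e hpe
    refine ⟨k', QC70.injective_stalkMapM_of_mono (kernel.ι p) (i z) ?_⟩
    rw [← he, ← hk', ← stalkMapM_smulModR, ← stalkMapM_comp]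
    exact (congrArg (fun φ => stalkMapM φ (i z) k') (Formal27.smulMod_comp (kernel.ι p) t).symm).trans
      (stalkMapM_comp _ _ _ _)
  have hb : scalStalk (i z) t ∈ IsLocalRing.maximalIdeal (X.presheaf.stalk (i z)) := by
    intro hu
    have hm : i z ∈ X.basicOpen (Coh.toGlobal (X ↘ Spec (CommRingCat.of R)) t) :=
      (X.mem_basicOpen (Coh.toGlobal (X ↘ Spec (CommRingCat.of R)) t) (i z) (U := ⊤) trivial).2 hu
    have hm' := (mem_basicOpen_toGlobal _ _).1 hm
    rw [(mem_range_special hsq).1 ⟨z, rfl⟩] at hm'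
    exact hm' (ht.ge (Ideal.mem_span_singleton_self t))
  have hbot := Submodule.eq_bot_of_le_smul_of_le_jacobson_bot _
    (⊤ : Submodule (X.presheaf.stalk (i z)) ((kernel p).presheaf.stalk (i z))) Module.Finite.fg_top
    (fun k _ => by
      obtain ⟨k', hk'⟩ := hall k
      rw [← hk']
      exact Submodule.smul_mem_smul hb trivial)
    (IsLocalRing.maximalIdeal_le_jacobson ⊥)
  exact subsingleton_of_forall_eq 0 fun k => (Submodule.eq_bot_iff _).1 hbot k trivial

include hsq ht in
/-- A map between flat coherent modules inducing an isomorphism of reductions is one. -/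
theorem isIso_of_special {I F : X.Modules} (hI : Coh.IsCoh I) (hF : Coh.IsCoh F)
    [Mono (Formal.smulMod R I t)] [Mono (Formal.smulMod R F t)] (p : I ⟶ F) [hp : IsIso ((Scheme.Modules.pullback i).map p)] : IsIso p := by
  have := isClosedImmersion_special _ i hsq
  haveI : IsLocallyNoetherian X := LocallyOfFiniteType.isLocallyNoetherian (X ↘ Spec (CommRingCat.of R))
  have hK : Coh.IsCoh (kernel p) := QC70.isCoh_kernel p hI hF.1
  haveI := hK.2
  have hk : IsZero (kernel p) := isZero_of_stalks_subsingleton fun x => subsingleton_stalk_iff.2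
    (Set.eq_empty_iff_forall_notMem.1 (eq_empty_of_special hsq (QC70.isClosed_support (kernel p))
      (Set.eq_empty_iff_forall_notMem.2 fun y ⟨hy, z, hz⟩ => by
        subst hz
        exact subsingleton_stalk_iff.1 (subsingleton_kernel_stalk hsq ht hI hF p z
          (QC70.injective_stalkMapM_of_mono _ z)) hy)) x)
  haveI : Mono p := Preadditive.mono_of_kernel_zero (hk.eq_of_src _ _)
  haveI : Epi p := by
    refine Abelian.epi_of_cokernel_π_eq_zero _ ?_
    refine (isZero_of_special hsq (QC70.isCoh_cokernel p hI.1 hF) ?_).eq_of_tgt _ _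
    haveI := (Scheme.Modules.pullbackPushforwardAdjunction i).leftAdjoint_preservesColimits
    exact (isZero_cokernel_of_epi ((Scheme.Modules.pullback i).map p)).of_iso
      (PreservesCokernel.iso (Scheme.Modules.pullback i) p)
  exact isIso_of_mono_of_epi p

end Groth.Agent.TF64
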