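import Groth.Agent.TF64.Lang.Modify
import Groth.Agent.TF64.TowerAlg
import Groth.Agent.Desc59.QCohDesc

/-!
Towers of modifications under a flat change of trait with the same residue field.
-/

set_option autoImplicit false
set_option backward.isDefEq.respectTransparency.types false
universe u

open CategoryTheory CategoryTheory.Limits AlgebraicGeometry TopologicalSpace

namespace Groth.Agent.TF64

theorem shortExact_pullback_flat {X Y : Scheme.{u}} (v : X ⟶ Y) [Flat v] {S : ShortComplex Y.Modules}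
    (hS : S.ShortExact) : (S.map (Scheme.Modules.pullback v)).ShortExact := by
  haveI := (Scheme.Modules.pullbackPushforwardAdjunction v).isLeftAdjoint
  haveI := hS.mono_f
  haveI := hS.epi_g
  exact { exact := hS.exact.map_of_epi_of_preservesCokernel _ hS.epi_g inferInstance
          mono_f := Desc59.QCohDesc.mono_pullback v S.f
          epi_g := inferInstanceAs (Epi ((Scheme.Modules.pullback v).map S.g)) }

theorem toPush_eq_homEquiv {X Xs : Scheme.{u}} (i : Xs ⟶ X) {I : X.Modules} {G : Xs.Modules}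
    (π : (Scheme.Modules.pullback i).obj I ⟶ G) :
    toPush i π = (Scheme.Modules.pullbackPushforwardAdjunction i).homEquiv _ _ π :=
  ((Scheme.Modules.pullbackPushforwardAdjunction i).homEquiv_unit _ _ π).symm

theorem pullIso_naturality {X X' Y : Scheme.{u}} {b : Y ⟶ X'} {i : X' ⟶ X} {a : Y ⟶ X} (h : b ≫ i = a)
    {F F' : X.Modules} (φ : F ⟶ F') :
    (Scheme.Modules.pullback b).map ((Scheme.Modules.pullback i).map φ) ≫ (pullIso h F').hom =
      (pullIso h F).hom ≫ (Scheme.Modules.pullback a).map φ := by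
  subst h
  simp only [pullIso, Iso.trans_hom, Iso.app_hom, Scheme.Modules.pullbackCongr, eqToIso_refl, Iso.refl_hom,
    NatTrans.id_app, Category.comp_id]
  exact (Scheme.Modules.pullbackComp b i).hom.naturality φ

theorem pullback_map_smulMod_square {R R₂ : Type u} [CommRing R] [CommRing R₂] {X X₂ : Scheme.{u}}
    {f : X ⟶ Spec (CommRingCat.of R)} {f₂ : X₂ ⟶ Spec (CommRingCat.of R₂)} {ρ : R →+* R₂} {v : X₂ ⟶ X}
    (hw : v ≫ f = f₂ ≫ Spec.map (CommRingCat.ofHom ρ)) (M : X.Modules) (t : R) :
    letI : X.Over (Spec (CommRingCat.of R)) := ⟨f⟩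
    letI : X₂.Over (Spec (CommRingCat.of R₂)) := ⟨f₂⟩
    (Scheme.Modules.pullback v).map (Formal.smulMod R M t) =
      Formal.smulMod R₂ ((Scheme.Modules.pullback v).obj M) (ρ t) := by
  letI : X.Over (Spec (CommRingCat.of R)) := ⟨f⟩
  letI : X₂.Over (Spec (CommRingCat.of R)) := ⟨v ≫ f⟩
  rw [Formal27.pullback_map_smulMod v rfl]
  refine congrArg (Formal.smulModΓ _) ?_
  change Coh.toGlobal (v ≫ f) t = Coh.toGlobal f₂ (ρ t)
  rw [hw]
  simp only [Coh.toGlobal, Scheme.Hom.comp_appTop, CommRingCat.hom_comp, RingHom.coe_comp, Function.comp_apply]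
  exact congrArg f₂.appTop.hom
    (congr($(Scheme.ΓSpecIso_inv_naturality (CommRingCat.ofHom ρ)) t) :).symm

variable {R R₂ : Type u} [CommRing R] [IsDomain R] [IsDiscreteValuationRing R] [CommRing R₂] [IsDomain R₂]
  [IsDiscreteValuationRing R₂] {X X₂ : Scheme.{u}} [X.Over (Spec (CommRingCat.of R))]
  [X₂.Over (Spec (CommRingCat.of R₂))] [IsProper (X₂ ↘ Spec (CommRingCat.of R₂))]
  {Xs : Scheme.{u}} {i : Xs ⟶ X} [IsClosedImmersion i] [IsLocallyNoetherian X] {v : X₂ ⟶ X} [Flat v] {i₂ : Xs ⟶ X₂} (hi : i₂ ≫ v = i) {ρ : R →+* R₂}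
  (hw : v ≫ (X ↘ Spec (CommRingCat.of R)) = (X₂ ↘ Spec (CommRingCat.of R₂)) ≫ Spec.map (CommRingCat.ofHom ρ))
  {qs₂ : Xs ⟶ Spec (CommRingCat.of (IsLocalRing.ResidueField R₂))}
  (hsq₂ : IsPullback i₂ qs₂ (X₂ ↘ Spec (CommRingCat.of R₂))
    (Spec.map (CommRingCat.ofHom (IsLocalRing.residue R₂))))
  {t : R} (ht₂ : IsLocalRing.maximalIdeal R₂ = Ideal.span {ρ t})

include hi hw hsq₂ ht₂ in
/-- The tower on the new trait. -/
theorem Tower.exists_pull (T : Tower i t) (hG : ∀ n, Coh.IsCoh (T.G n)) :
    ∃ T₂ : Tower i₂ (ρ t), ∃ (hIn : T₂.In 0 = (Scheme.Modules.pullback v).obj (T.In 0)) (e : T₂.G 0 ≅ T.G 0),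
      T₂.π 0 ≫ e.hom =
        (Scheme.Modules.pullback i₂).map (eqToHom hIn) ≫ (pullIso hi (T.In 0)).hom ≫ T.π 0 := by
  have := isClosedImmersion_special _ i₂ hsq₂
  haveI : IsLocallyNoetherian X₂ := LocallyOfFiniteType.isLocallyNoetherian (X₂ ↘ Spec (CommRingCat.of R₂))
  haveI : IsLocallyNoetherian Xs := LocallyOfFiniteType.isLocallyNoetherian i₂
  let V := Scheme.Modules.pullback v
  let P₂ := Scheme.Modules.pushforward i₂
  let adj₂ := Scheme.Modules.pullbackPushforwardAdjunction i₂
  let adj := Scheme.Modules.pullbackPushforwardAdjunction i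
  let In : ℕ → X₂.Modules := fun n => V.obj (T.In n)
  let π : ∀ n, (Scheme.Modules.pullback i₂).obj (In n) ⟶ T.G n := fun n => (pullIso hi (T.In n)).hom ≫ T.π n
  let g : ∀ n, (Scheme.Modules.pullback i₂).obj (V.obj ((Scheme.Modules.pushforward i).obj (T.G n))) ⟶ T.G n :=
    fun n => (pullIso hi _).hom ≫ adj.counit.app (T.G n)
  let Φ : ∀ n, V.obj ((Scheme.Modules.pushforward i).obj (T.G n)) ⟶ P₂.obj (T.G n) := fun n => toPush i₂ (g n)
  have hΦ : ∀ n, V.map (toPush i (T.π n)) ≫ Φ n = toPush i₂ (π n) := fun n => by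
    rw [toPush_naturality]
    refine congrArg (toPush i₂) ?_
    rw [← Category.assoc, pullIso_naturality, Category.assoc]
    refine congrArg ((pullIso hi (T.In n)).hom ≫ ·) ?_
    have h := (adj.homEquiv _ _).symm_apply_apply (T.π n)
    rw [Adjunction.homEquiv_unit, Adjunction.homEquiv_counit] at h
    exact h
  have hkill : ∀ n, Formal.smulMod R ((Scheme.Modules.pushforward i).obj (T.G n)) t = 0 := fun n => by
    haveI := T.epi_u n
    rw [← cancel_epi (toPush i (T.π n)), comp_zero, Formal27.smulMod_comp, ← (T.D n).τ_j, Category.assoc,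
      (T.D n).j_zero, comp_zero]
  have hiso : ∀ n, IsIso (Φ n) := fun n => by
    have := isClosedImmersion_special _ i₂ hsq₂
    haveI := T.epi_u n
    have hPc : Coh.IsCoh (V.obj ((Scheme.Modules.pushforward i).obj (T.G n))) := by
      exact isCoh_pull v (QC70.isCoh_pushforward i (T.G n) (hG n))
    obtain ⟨w, hex, hepi⟩ := exact_unit _ i₂ hsq₂ ht₂ rfl hPc
    have h0 : Formal.smulMod R₂ (V.obj ((Scheme.Modules.pushforward i).obj (T.G n))) (ρ t) = 0 :=
      (pullback_map_smulMod_square hw _ t).symm.trans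
        ((congrArg V.map (hkill n)).trans (V.map_zero _ _))
    haveI : Mono (adj₂.unit.app (V.obj ((Scheme.Modules.pushforward i).obj (T.G n)))) := hex.mono_g h0
    haveI : IsIso (adj₂.unit.app (V.obj ((Scheme.Modules.pushforward i).obj (T.G n)))) := isIso_of_mono_of_epi _
    haveI : IsIso (adj.counit.app (T.G n)) := Dev46.isIso_counit i (hG n)
    simp only [Φ, toPush, g]
    infer_instance
  have hS : ∀ n, (ShortComplex.mk _ _ (T.D n).j_zero).ShortExact := fun n =>
    { exact := T.exact_u n, mono_f := (T.D n).mono_j, epi_g := T.epi_u n }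
  have hD : ∀ n, Nonempty (StepData (ρ t) (π n) (π (n + 1))) := fun n => by
    have h := shortExact_pullback_flat v (hS n)
    haveI := hiso n
    refine ⟨{
      j := V.map (T.D n).j
      τ := V.map (T.D n).τ
      a := (T.D n).a
      mono_j := h.mono_f
      j_zero := by rw [← hΦ, ← Category.assoc, ← V.map_comp, (T.D n).j_zero, V.map_zero, zero_comp]
      lift := fun w hw => ?_
      τ_j := by rw [← V.map_comp, (T.D n).τ_j]; exact pullback_map_smulMod_square hw _ t
      π_a := ?_ }⟩
    · rw [← hΦ, ← Category.assoc] at hw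
      have h0 : w ≫ V.map (toPush i (T.π n)) = 0 := by rw [← cancel_mono (Φ n), hw, zero_comp]
      haveI := h.mono_f
      exact ⟨h.exact.lift w h0, h.exact.lift_f w h0⟩
    · simp only [π, Category.assoc]
      rw [(T.D n).π_a, reassoc_of% pullIso_naturality hi (T.D n).τ]
  refine ⟨{ In := In, G := T.G, π := π, D := fun n => (hD n).some,
            coh := fun n => isCoh_pull v (T.coh n),
            epi_π := fun n => by
              haveI := T.epi_π n
              exact epi_comp _ _,
            epi_u := fun n => by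
              haveI := T.epi_u n
              haveI := hiso n
              haveI := (Scheme.Modules.pullbackPushforwardAdjunction v).leftAdjoint_preservesColimits
              rw [← hΦ]
              exact epi_comp _ _ }, rfl, Iso.refl _, ?_⟩
  exact (Category.comp_id _).trans ((congrArg (· ≫ _) ((Scheme.Modules.pullback i₂).map_id _)).trans (Category.id_comp _)).symm

end Groth.Agent.TF64
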